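import Cfsg.Agent.FusSys.AMap.Basic
import Cfsg.Agent.FusSys.Centric

/-!
The subgroup `R C_U(R)` for a strongly closed `U`, and its transport.
-/

set_option autoImplicit false
set_option linter.unusedSectionVars false
set_option linter.style.haveILetI false
set_option linter.unusedVariables false

namespace Cfsg.Agent.FusSys.AM

open Cfsg Cfsg.FusionSystem Cfsg.Agent.FusSys

universe u

variable {Ω : Type u} [Group Ω] {S T U : Subgroup Ω} {F : FusionSystem S}
variable {R R' Y : Subgroup Ω} {f g : Ω → Ω} {p : ℕ}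

/-- `R C_U(R)`. -/
def cc (U R : Subgroup Ω) : Subgroup Ω := R ⊔ centralizerIn U R

theorem le_cc : R ≤ cc U R := le_sup_left

theorem centralizer_le_cc : centralizerIn U R ≤ cc U R := le_sup_right

theorem cc_le (hR : R ≤ U) : cc U R ≤ U := sup_le hR inf_le_left

theorem comm_of_mem {c x : Ω} (hc : c ∈ centralizerIn U R) (hx : x ∈ R) : c * x * c⁻¹ = x := by
  rw [← Subgroup.mem_centralizer_iff.1 hc.2 x hx]
  group

theorem mem_centralizerIn {c : Ω} (hc : c ∈ U) (h : ∀ x ∈ R, c * x * c⁻¹ = x) :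
    c ∈ centralizerIn U R :=
  ⟨hc, Subgroup.mem_centralizer_iff.2 fun x hx => by
    calc x * c = c * x * c⁻¹ * c := by rw [h x hx]
      _ = c * x := by group⟩

theorem cc_le_normalizer : cc U R ≤ Subgroup.normalizer (R : Set Ω) :=
  sup_le Subgroup.le_normalizer ((inf_le_right).trans (Subgroup.centralizer_le_normalizer _))

theorem mem_cc {x : Ω} : x ∈ cc U R ↔ ∃ r ∈ R, ∃ c ∈ centralizerIn U R, r * c = x := by
  rw [← SetLike.mem_coe, cc, Subgroup.coe_mul_of_right_le_normalizer_left R (centralizerIn U R)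
    (le_trans inf_le_right (Subgroup.centralizer_le_normalizer _)), Set.mem_mul]
  rfl

theorem cc_mono (hUS : U ≤ S) : cc U R ≤ cc S R := sup_le_sup le_rfl (inf_le_inf_right _ hUS)

theorem cc_inter {x : Ω} (hRV : R ≤ U) (hx : x ∈ cc S R) (hxU : x ∈ U) : x ∈ cc U R := by
  obtain ⟨r, hr, c, hc, rfl⟩ := mem_cc.1 hx
  refine mem_cc.2 ⟨r, hr, c, ⟨?_, hc.2⟩, rfl⟩
  have h1 := U.mul_mem (U.inv_mem (hRV hr)) hxU
  rwa [inv_mul_cancel_left] at h1

theorem TC.cc_inter (hT : F.StronglyClosed T) (h : TC F T R) {x : Ω} (hx : x ∈ cc S R)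
    (hxT : x ∈ T) : x ∈ R := by
  obtain ⟨r, hr, c, hc, rfl⟩ := mem_cc.1 (AM.cc_inter h.1 hx hxT)
  exact R.mul_mem hr (h.self hT hc)

/-- An element normalizing `R` and `U` normalizes `R C_U(R)`. -/
theorem conj_mem_cc {g x : Ω} (hgR : g ∈ Subgroup.normalizer (R : Set Ω))
    (hgU : g ∈ Subgroup.normalizer (U : Set Ω)) (hx : x ∈ cc U R) : g * x * g⁻¹ ∈ cc U R := by
  obtain ⟨r, hr, c, hc, rfl⟩ := mem_cc.1 hx
  refine mem_cc.2 ⟨g * r * g⁻¹, (Subgroup.mem_normalizer_iff.1 hgR r).1 hr, g * c * g⁻¹,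
    mem_centralizerIn ((Subgroup.mem_normalizer_iff.1 hgU c).1 hc.1) fun y hy => ?_, by group⟩
  have h1 := comm_of_mem hc ((Subgroup.mem_normalizer_iff''.1 hgR y).1 hy)
  calc g * c * g⁻¹ * y * (g * c * g⁻¹)⁻¹ = g * (c * (g⁻¹ * y * g) * c⁻¹) * g⁻¹ := by group
    _ = y := by rw [h1]; group

theorem mem_normalizer_cc [Finite S] (hUS : U ≤ S) (hR : R ≤ S) {g : Ω}
    (hgR : g ∈ Subgroup.normalizer (R : Set Ω)) (hgU : g ∈ Subgroup.normalizer (U : Set Ω)) :
    g ∈ Subgroup.normalizer (cc U R : Set Ω) := by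
  haveI : Finite (cc U R) := finite_of_le (sup_le hR (inf_le_left.trans hUS) : cc U R ≤ S)
  exact mem_normalizer_of_conj_mem fun x hx => conj_mem_cc hgR hgU hx

theorem normalizer_self {g : Ω} (hg : g ∈ S) : g ∈ Subgroup.normalizer (S : Set Ω) :=
  Subgroup.le_normalizer hg

/-- Maps defined on `R C_U(R)` carry the centralizer into the centralizer. -/
theorem centralizerIn_image (hU : F.StronglyClosed U) (hf : Mor F (cc U R) f)
    (hR : Iso F R R' f) {c : Ω} (hc : c ∈ centralizerIn U R) : f c ∈ centralizerIn U R' := by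
  refine mem_centralizerIn (StronglyClosed.mor_mem hU hf (centralizer_le_cc hc) hc.1) fun y hy => ?_
  obtain ⟨x, hx, rfl⟩ := hR.exists_eq hy
  rw [← hf.map_conj (centralizer_le_cc hc) (le_cc hx), comm_of_mem hc hx]

/-- A map on `R C_U(R)` to a subgroup with no larger centralizer is onto `R' C_U(R')`. -/
theorem image_cc [Finite S] (hU : F.StronglyClosed U) (hf : Mor F (cc U R) f)
    (hR : Iso F R R' f) (hc : Nat.card (centralizerIn U R') ≤ Nat.card (centralizerIn U R)) :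
    Iso F (cc U R) (cc U R') f ∧ ∀ c ∈ centralizerIn U R', ∃ b ∈ centralizerIn U R, f b = c := by
  have hs : ∀ c ∈ centralizerIn U R', ∃ b ∈ centralizerIn U R, f b = c := fun c hc' =>
    (hf.mono centralizer_le_cc).surj_of_card (inf_le_left.trans hU.1)
      (fun b hb => centralizerIn_image hU hf hR hb) hc hc'
  refine ⟨⟨hf, fun y => ⟨fun hy => ?_, ?_⟩⟩, hs⟩
  · obtain ⟨r, hr, c, hc', rfl⟩ := mem_cc.1 hy
    obtain ⟨x, hx, rfl⟩ := hR.exists_eq hr
    obtain ⟨b, hb, rfl⟩ := hs c hc'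
    exact ⟨x * b, mem_cc.2 ⟨x, hx, b, hb, rfl⟩, hf.map_mul (le_cc hx) (centralizer_le_cc hb)⟩
  · rintro ⟨z, hz, rfl⟩
    obtain ⟨x, hx, b, hb, rfl⟩ := mem_cc.1 hz
    rw [hf.map_mul (le_cc hx) (centralizer_le_cc hb)]
    exact mem_cc.2 ⟨f x, hR.mem hx, f b, centralizerIn_image hU hf hR hb, rfl⟩

theorem stronglyClosed_self [Finite S] : F.StronglyClosed S :=
  stronglyClosed_iff.2 ⟨le_rfl, fun _ _ _ hf _ hx => hf.mem_S hx⟩

section Sat

variable [Fact p.Prime] [Finite S] (hS : IsPGroup p S) (hF : F.IsSaturated p)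
include hS hF

/-- A fully centralized subgroup has the largest centralizer in every strongly closed subgroup. -/
theorem card_centralizerIn_le (hU : F.StronglyClosed U) (hR : F.IsFullyCentralized R)
    (hc : F.IsConj R R') : Nat.card (centralizerIn U R') ≤ Nat.card (centralizerIn U R) := by
  obtain ⟨g, hg⟩ := isConj_iff.1 (isConj_symm hc)
  obtain ⟨k, hk, hkg⟩ := (isReceptive_iff.1 (receptive_of_fullyCentralized hS hF hR)).2 R' g hg
  have hle : cc U R' ≤ nPhi S R' g :=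
    sup_le hg.1.le_nPhi ((inf_le_inf_right _ hU.1).trans centralizerIn_le_nPhi)
  have hki : Iso F R' R k := hg.congr hkg
  exact ((hk.mono hle).mono centralizer_le_cc).card_image_le (inf_le_left.trans hU.1)
    fun c hc' => centralizerIn_image hU (hk.mono hle) hki hc'

/-- Isomorphisms of fully centralized subgroups extend to `R C_S(R)`. -/
theorem exists_iso_cc (hR : F.IsFullyCentralized R) (hR' : F.IsFullyCentralized R')
    (hg : Iso F R R' g) : ∃ k, Iso F (cc S R) (cc S R') k ∧ ∀ x ∈ R, k x = g x := by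
  obtain ⟨k, hk, hkg⟩ := (isReceptive_iff.1 (receptive_of_fullyCentralized hS hF hR')).2 R g hg
  have hle : cc S R ≤ nPhi S R g := sup_le hg.1.le_nPhi centralizerIn_le_nPhi
  exact ⟨k, (image_cc stronglyClosed_self (hk.mono hle) (hg.congr hkg) (hR.2 R' hg.isConj)).1,
    hkg⟩

/-- `R C_U(R)` is centric in systems over `U` inside `F`, for `R` fully centralized. -/
theorem cc_centric {E : FusionSystem U} (hE : E.IsSubsystemOf F) (hU : F.StronglyClosed U)
    (hR : F.IsFullyCentralized R) (hRU : R ≤ U) : E.IsCentric (cc U R) := by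
  refine ⟨cc_le hRU, fun Q hQ c hc => ?_⟩
  obtain ⟨f, hf⟩ := isConj_iff.1 hQ
  have hfF : Iso F (cc U R) Q f := ⟨isSubsystemOf_iff_mor.1 hE _ _ hf.1, hf.2⟩
  obtain ⟨R₁, hR₁⟩ := (hfF.1.mono le_cc).exists_iso
  obtain ⟨hi, -⟩ := image_cc hU hfF.1 hR₁ (card_centralizerIn_le hS hF hU hR hR₁.isConj)
  obtain rfl : Q = cc U R₁ := hfF.eq_image hi
  exact centralizer_le_cc ⟨hc.1, Subgroup.centralizer_le le_cc hc.2⟩

theorem cc_centric_self (hR : F.IsFullyCentralized R) : F.IsCentric (cc S R) :=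
  cc_centric hS hF (E := F) (fun _ => Set.Subset.rfl) stronglyClosed_self hR hR.1

end Sat

end Cfsg.Agent.FusSys.AM
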