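import Cfsg.Agent.FusSys.AMap.Meet.Grp

/-!
Automorphisms of order prime to `p` of larger subgroups remain in a weakly normal subsystem.
-/

set_option autoImplicit false
set_option linter.unusedSectionVars false
set_option linter.style.haveILetI false
set_option linter.unusedVariables false
set_option maxHeartbeats 400000

namespace Cfsg.Agent.FusSys.AM

open Cfsg Cfsg.FusionSystem Cfsg.Agent.FusSys

universe u

variable {Ω : Type u} [Group Ω] {S T U : Subgroup Ω} {F : FusionSystem S}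
variable {R Y W K D : Subgroup Ω} {f g : Ω → Ω} {p : ℕ}

/-- The values of a map on a join. -/
theorem maps_sup (hf : Mor F D f) {A B : Subgroup Ω} (hA : A ≤ D) (hB : B ≤ D)
    (ha : ∀ x ∈ A, f x ∈ W) (hb : ∀ x ∈ B, f x ∈ W) {x : Ω} (hx : x ∈ A ⊔ B) : f x ∈ W := by
  suffices H : x ∈ D ∧ f x ∈ W from H.2
  rw [Subgroup.sup_eq_closure] at hx
  induction hx using Subgroup.closure_induction with
  | mem y hy => exact hy.elim (fun h => ⟨hA h, ha y h⟩) fun h => ⟨hB h, hb y h⟩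
  | one => exact ⟨one_mem _, by rw [hf.map_one]; exact one_mem _⟩
  | mul a b _ _ iha ihb => exact ⟨mul_mem iha.1 ihb.1, by
      rw [hf.map_mul iha.1 ihb.1]; exact mul_mem iha.2 ihb.2⟩
  | inv a _ iha => exact ⟨inv_mem iha.1, by rw [hf.map_inv iha.1]; exact inv_mem iha.2⟩

/-- An automorphism trivial modulo `Y` on generators is so on what they generate. -/
theorem mod_sup {A B : Subgroup Ω} (hA : A ≤ W) (hB : B ≤ W) (hY : Y ≤ W)
    (hYn : W ≤ Subgroup.normalizer (Y : Set Ω)) {α : MulAut W}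
    (ha : ∀ x ∈ A, x⁻¹ * apl α x ∈ Y) (hb : ∀ x ∈ B, x⁻¹ * apl α x ∈ Y) {x : Ω}
    (hx : x ∈ A ⊔ B) : x⁻¹ * apl α x ∈ Y := by
  suffices H : x ∈ W ∧ x⁻¹ * apl α x ∈ Y from H.2
  rw [Subgroup.sup_eq_closure] at hx
  induction hx using Subgroup.closure_induction with
  | mem y hy => exact hy.elim (fun h => ⟨hA h, ha y h⟩) fun h => ⟨hB h, hb y h⟩
  | one =>
    refine ⟨one_mem _, ?_⟩
    rw [apl_apply α W.one_mem, show (⟨1, W.one_mem⟩ : W) = 1 from rfl, map_one]
    simp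
  | mul a b _ _ iha ihb =>
    refine ⟨mul_mem iha.1 ihb.1, ?_⟩
    have e : apl α (a * b) = apl α a * apl α b := by
      obtain ⟨a', rfl⟩ : ∃ a' : W, (a' : Ω) = a := ⟨⟨a, iha.1⟩, rfl⟩
      obtain ⟨b', rfl⟩ : ∃ b' : W, (b' : Ω) = b := ⟨⟨b, ihb.1⟩, rfl⟩
      rw [← Subgroup.coe_mul, apl_coe, apl_coe, apl_coe, map_mul, Subgroup.coe_mul]
    have h1 := Y.mul_mem ((Subgroup.mem_normalizer_iff''.1 (hYn ihb.1) _).1 iha.2) ihb.2
    rw [e]
    convert h1 using 1
    group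
  | inv a _ iha =>
    refine ⟨inv_mem iha.1, ?_⟩
    have e : apl α a⁻¹ = (apl α a)⁻¹ := by
      obtain ⟨a', rfl⟩ : ∃ a' : W, (a' : Ω) = a := ⟨⟨a, iha.1⟩, rfl⟩
      rw [← Subgroup.coe_inv, apl_coe, apl_coe, map_inv, Subgroup.coe_inv]
    have h1 := (Subgroup.mem_normalizer_iff.1 (hYn iha.1) _).1 (Y.inv_mem iha.2)
    rw [e]
    convert h1 using 1
    group

/-- Iterates of an automorphism trivial modulo `Y` are trivial modulo `Y`. -/
theorem mod_pow {α : MulAut W} (hα : ∀ x ∈ W, x⁻¹ * apl α x ∈ Y) (n : ℕ) :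
    ∀ x ∈ W, x⁻¹ * apl (α ^ n) x ∈ Y := by
  induction n with
  | zero => intro x hx; rw [pow_zero, apl_one hx, inv_mul_cancel]; exact Y.one_mem
  | succ n ih =>
    intro x hx
    rw [pow_succ', apl_mul _ _ hx]
    have h1 := Y.mul_mem (ih x hx) (hα (apl (α ^ n) x) (apl_mem _ hx))
    rwa [mul_assoc, mul_inv_cancel_left] at h1

theorem mod_zpow [Finite W] {α β : MulAut W} (hα : ∀ x ∈ W, x⁻¹ * apl α x ∈ Y)
    (hβ : β ∈ Subgroup.zpowers α) : ∀ x ∈ W, x⁻¹ * apl β x ∈ Y := by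
  haveI : Finite (MulAut W) := Finite.of_injective _ MulEquiv.toEquiv_injective
  obtain ⟨n, rfl⟩ := mem_powers_iff_mem_zpowers.2 hβ
  exact mod_pow hα n

section Ext

variable [Fact p.Prime] [Finite S] (hS : IsPGroup p S)
include hS

/-- A `p'`-automorphism of `V ≤ U` which lies in `E` on a centric subgroup normal in `V` lies in `E`. -/
theorem mor_ext {E : FusionSystem U} (hE : E.IsWeaklyNormalIn F p) {V : Subgroup Ω} (hVU : V ≤ U)
    (hK : E.IsCentric K) (hKV : K ≤ V) (hVn : V ≤ Subgroup.normalizer (K : Set Ω))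
    {ν : MulAut V} (hν : ν ∈ F.autGroup V) (hco : (orderOf ν).Coprime p)
    (hst : ∀ x ∈ K, apl ν x ∈ K) (hm : Mor E K (apl ν)) : Mor E V (apl ν) := by
  have hUS := hE.2.2.2.1.1
  have hVS := hVU.trans hUS
  haveI := finite_of_le hUS
  haveI := finite_of_le hVS
  haveI := finite_of_le (hKV.trans hVS)
  haveI : Finite (MulAut V) := Finite.of_injective _ MulEquiv.toEquiv_injective
  have hUp := hS.to_le hUS
  have hνm := iso_apl (F := F) hVS hν
  have hKi : Iso E K K (apl ν) := iso_of_stable hm hst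
  obtain ⟨e, he, hex⟩ := (isReceptive_iff.1 (centric_receptive hUp hE.1 hK)).2 K _ hKi
  have hle : V ≤ nPhi U K (apl ν) := fun v hv => mem_nPhi.2 ⟨hVU hv, hVn hv, apl ν v,
    hVU (apl_mem ν hv), fun x hx => hνm.1.map_conj hv (hKV hx)⟩
  have heV := he.mono hle
  have hmem : ∀ v ∈ V, e v ∈ V := fun v hv => by
    have h1 : (apl ν v)⁻¹ * e v ∈ K := by
      refine centric_self hK ⟨U.mul_mem (U.inv_mem (hVU (apl_mem ν hv))) (heV.mem_S hv),
        Subgroup.mem_centralizer_iff.2 fun y hy => ?_⟩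
      obtain ⟨x, hx, rfl⟩ := hKi.exists_eq hy
      have hvx := (Subgroup.mem_normalizer_iff.1 (hVn hv) x).1 hx
      have e1 : e v * apl ν x * (e v)⁻¹ = apl ν v * apl ν x * (apl ν v)⁻¹ := by
        rw [← hex x hx, ← heV.map_conj hv (hKV hx), hex _ hvx, hνm.1.map_conj hv (hKV hx), hex x hx]
      calc apl ν x * ((apl ν v)⁻¹ * e v)
          = (apl ν v)⁻¹ * (apl ν v * apl ν x * (apl ν v)⁻¹) * e v := by group
        _ = (apl ν v)⁻¹ * (e v * apl ν x * (e v)⁻¹) * e v := by rw [e1]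
        _ = (apl ν v)⁻¹ * e v * apl ν x := by group
    have := V.mul_mem (apl_mem ν hv) (hKV h1)
    rwa [mul_inv_cancel_left] at this
  obtain ⟨ε, hε, hεx⟩ := (iso_of_stable heV hmem).exists_mem_autGroup
  have hεF := autGroup_le_of_invariant hE.2.2 hε
  have hfix : ∀ x ∈ K, apl (ε⁻¹ * ν) x = x := fun x hx => by
    rw [apl_mul _ _ (hKV hx), show apl ν x = apl ε x from by rw [hεx x (hKV hx), hex x hx],
      apl_inv_apl ε (hKV hx)]
  have hd := mul_mem (inv_mem hεF) hν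
  obtain ⟨k, hk⟩ := pow_eq_one_of_fix (F := F) hS hKV hVS hd hfix fun x hx =>
    diff_mem_of_fix hK (iso_apl (F := F) hVS hd).1 (fun y hy => ⟨hVU hy, hVn hy⟩) hKV
      (fun y hy => hVU (apl_mem _ hy)) hfix hx
  have h1 := mem_of_coprime_mul (Γ := F.autGroup V) (N := E.autGroup V) (x := ν) (d := ε⁻¹ * ν)
    (fun a ha b hb => by
      have h2 := conjAut_mem_of_isInvariant hE.2.2 hVU (iso_apl hVS ha) hb
      rwa [conjAut_apl_iso hVS ha] at h2)
    (autGroup_le_of_invariant hE.2.2) hν hd hk (by rwa [mul_inv_rev, inv_inv, mul_inv_cancel_left])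
    hco
  exact (iso_apl hVU h1).1

/-- The same inside the intersection with `U`. -/
theorem mor_ext_inter {E : FusionSystem U} (hE : E.IsWeaklyNormalIn F p) (hW : W ≤ S)
    (hK : E.IsCentric K) (hKW : K ≤ W) (hWn : W ≤ Subgroup.normalizer (K : Set Ω))
    {ν : MulAut W} (hν : ν ∈ F.autGroup W) (hco : (orderOf ν).Coprime p)
    (hst : ∀ x ∈ K, apl ν x ∈ K) (hm : Mor E K (apl ν)) : Mor E (W ⊓ U) (apl ν) := by
  haveI := finite_of_le hW
  have hs : ν ∈ stab W (W ⊓ U) := mem_stab.2 fun x hx hx' =>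
    ⟨apl_mem ν hx, StronglyClosed.mor_mem hE.2.2.2.1 (iso_apl hW hν).1 hx hx'.2⟩
  have hle : W ⊓ U ≤ W := inf_le_left
  have e : ∀ x ∈ W ⊓ U, apl (resHom hle ⟨ν, hs⟩) x = apl ν x := fun x hx => resHom_apl hle _ hx
  have hKV : K ≤ W ⊓ U := le_inf hKW hK.1
  exact (mor_ext hS hE inf_le_right hK hKV (hle.trans hWn) (resHom_mem hle hW hν)
    (Nat.Coprime.coprime_dvd_left ((orderOf_map_dvd _ _).trans (by rw [Subgroup.orderOf_mk])) hco)
    (fun x hx => by rw [e x (hKV hx)]; exact hst x hx)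
    (hm.congr fun x hx => e x (hKV hx))).congr fun x hx => (e x hx).symm

end Ext

end Cfsg.Agent.FusSys.AM
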