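import Cfsg.Agent.FusSys.AMap.Meet.Syl
import Cfsg.Agent.Fusion.Alperin

/-!
The automorphism groups of the meet at the subgroups of `T` which are centric there.
-/

set_option autoImplicit false
set_option linter.unusedSectionVars false
set_option linter.style.haveILetI false
set_option linter.unusedVariables false
set_option maxHeartbeats 400000

namespace Cfsg.Agent.FusSys.AM

open Cfsg Cfsg.FusionSystem Cfsg.Agent.FusSys

universe u

variable {Ω : Type u} [Group Ω] {S T T₁ T₂ : Subgroup Ω} {F : FusionSystem S}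
variable {E₁ : FusionSystem T₁} {E₂ : FusionSystem T₂}
variable {R R' Y : Subgroup Ω} {f g : Ω → Ω} {p : ℕ}

/-- An automorphism which is conjugation by an element of `T` somewhere in the class. -/
def PT (F : FusionSystem S) (T R : Subgroup Ω) (α : MulAut R) : Prop :=
  α ∈ F.autGroup R ∧ ∃ R'' φ, ∃ t ∈ normalizerIn T R'', Iso F R R'' φ ∧
    ∀ x ∈ R, φ (apl α x) = t * φ x * t⁻¹

/-- An automorphism of the `p'`-part at every fully centralized member of the class. -/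
def Gen (p : ℕ) (F : FusionSystem S) (E₁ : FusionSystem T₁) (E₂ : FusionSystem T₂) (R : Subgroup Ω)
    (γ : MulAut R) : Prop :=
  γ ∈ F.autGroup R ∧ ∀ R' g (hg : Iso F R R' g), F.IsFullyCentralized R' →
    Res0 p F E₁ E₂ R' (hg.conjAut γ)

/-- The automorphism groups of the meet. -/
def AA (p : ℕ) (F : FusionSystem S) (E₁ : FusionSystem T₁) (E₂ : FusionSystem T₂) (T R : Subgroup Ω) :
    Subgroup (MulAut R) :=
  Subgroup.closure {α | PT F T R α ∨ Gen p F E₁ E₂ R α}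

theorem AA_le {p : ℕ} : AA p F E₁ E₂ T R ≤ F.autGroup R :=
  (Subgroup.closure_le _).2 fun _ hα => hα.elim (·.1) (·.1)

theorem equiv_AA (hf : Iso F R R' f) {α : MulAut R} (hα : α ∈ AA p F E₁ E₂ T R) :
    hf.conjAut α ∈ AA p F E₁ E₂ T R' := by
  induction hα using Subgroup.closure_induction with
  | mem a ha =>
    refine Subgroup.subset_closure ?_
    rcases ha with ⟨haF, R'', φ, t, ht, hφ, hφx⟩ | ⟨haF, hg⟩
    · obtain ⟨f', hf', hf'f, -⟩ := hf.symm
      refine Or.inl ⟨hf.conjAut_mem haF, R'', _, t, ht, hf'.comp hφ, fun y hy => ?_⟩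
      obtain ⟨x, hx, rfl⟩ := hf.exists_eq hy
      show φ (f' _) = t * φ (f' (f x)) * t⁻¹
      rw [hf.conjAut_apl a hx, hf'f _ (apl_mem a hx), hf'f x hx, hφx x hx]
    · refine Or.inr ⟨hf.conjAut_mem haF, fun R'' g hg' hc => ?_⟩
      rw [conjAut_comp hf hg' (hf.comp hg')]
      exact hg R'' _ _ hc
  | one => rw [map_one]; exact one_mem _
  | mul a b _ _ ha hb => rw [map_mul]; exact mul_mem ha hb
  | inv a _ ha => rw [map_inv]; exact inv_mem ha

theorem autT_AA (hRS : R ≤ S) (hTS : T ≤ S) : autInducedBy T R ≤ AA p F E₁ E₂ T R := fun α hα => by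
  obtain ⟨t, ht, htn, htx⟩ := mem_autInducedBy_iff.1 hα
  exact Subgroup.subset_closure (Or.inl ⟨autInducedBy_le_autGroup hRS (autInducedBy_mono hTS hα),
    R, id, t, ⟨ht, htn⟩, iso_id hRS, fun x hx => htx x hx⟩)

theorem PT.pow_eq_one (hT : IsPGroup p T) {α : MulAut R} (hα : PT F T R α) :
    ∃ k, α ^ p ^ k = 1 := by
  obtain ⟨-, R'', φ, t, ht, hφ, hφx⟩ := hα
  obtain ⟨τ, hτ, hτx⟩ := exists_mem_autInducedBy (P := R'') (K := T) ht.1 ht.2
  obtain ⟨k, hk⟩ := isPGroup_autInducedBy (P := R'') hT ⟨τ, hτ⟩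
  have e : hφ.conjAut α = τ := apl_ext fun y hy => by
    rw [hτx y hy]
    exact hφ.conjAut_eq_conj hφx y hy
  refine ⟨k, hφ.conjAut.injective ?_⟩
  rw [map_pow, e, map_one]
  exact congrArg Subtype.val hk

namespace Pair

variable (h : Pair p F T E₁ E₂) [Fact p.Prime] [Finite S]
include h

theorem res0_transport (hR : TC F T R) (hRc : F.IsFullyCentralized R)
    (hR'c : F.IsFullyCentralized R') (hg : Iso F R R' g) {γ : MulAut R}
    (hγ : Res0 p F E₁ E₂ R γ) : Res0 p F E₁ E₂ R' (hg.conjAut γ) := by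
  obtain ⟨η, hη, hco, hηx⟩ := hγ
  obtain ⟨k, hk, hkg⟩ := exists_iso_cc h.pS h.sat hRc hR'c hg
  refine ⟨hk.conjAut η, h.XX_transport hR (hR.of_iso h.sc hg) hk hη,
    by rw [orderOf_conjAut]; exact hco, fun y hy => ?_⟩
  obtain ⟨x, hx, rfl⟩ := hg.exists_eq hy
  have e := hk.conjAut_apl η (le_cc (U := S) hx)
  rw [hkg x hx, hηx x hx, hkg _ (apl_mem γ hx)] at e
  rw [e, hg.conjAut_apl γ hx]

theorem autGroup_of_res0 (hR : TC F T R) {γ : MulAut R} (hγ : Res0 p F E₁ E₂ R γ) :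
    γ ∈ F.autGroup R := by
  obtain ⟨η, hη, -, hηx⟩ := hγ
  exact (mem_autGroup_iff (h.le_S hR)).2
    ((h.iso_R hR (h.XX_le hR hη)).congr fun x hx => (hηx x hx).symm)

theorem gen_of_res0 (hR : TC F T R) (hRc : F.IsFullyCentralized R) {γ : MulAut R}
    (hγ : Res0 p F E₁ E₂ R γ) : Gen p F E₁ E₂ R γ :=
  ⟨h.autGroup_of_res0 hR hγ, fun R' g hg hc => h.res0_transport hR hRc hc hg hγ⟩

theorem res0_of_gen (hR : TC F T R) (hRc : F.IsFullyCentralized R) {γ : MulAut R}
    (hγ : Gen p F E₁ E₂ R γ) : Res0 p F E₁ E₂ R γ := by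
  have e : (iso_id (F := F) (h.le_S hR)).conjAut γ = γ := apl_ext fun x hx => by
    simpa using (iso_id (F := F) (h.le_S hR)).conjAut_apl γ hx
  exact e ▸ hγ.2 R id (iso_id (h.le_S hR)) hRc

/-- At a fully normalized subgroup the group consists of restrictions. -/
theorem exists_HH (hR : TC F T R) (hn : F.IsFullyNormalized R) {α : MulAut R}
    (hα : α ∈ AA p F E₁ E₂ T R) : ∃ η ∈ HH p F E₁ E₂ T R, ∀ x ∈ R, apl η x = apl α x := by
  have hRS := h.le_S hR
  have hrec := receptive_of_fullyNormalized h.pS h.sat hn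
  induction hα using Subgroup.closure_induction with
  | mem a ha =>
    rcases ha with ha | ha
    · obtain ⟨haF, R'', φ, t, ht, hφ, hφx⟩ := id ha
      haveI := finite_of_le hRS
      haveI : Finite (MulAut R) := Finite.of_injective _ MulEquiv.toEquiv_injective
      obtain ⟨k, hk⟩ := ha.pow_eq_one (h.pS.to_le h.T_le)
      obtain ⟨-, U, hU⟩ := fullyAutomized_of_fullyNormalized h.pS h.sat hn
      obtain ⟨c, hc⟩ := exists_conj_mem_sylow (isPGroup_zpowers_of_pow_eq_one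
        (x := (⟨a, haF⟩ : F.autGroup R)) (e := k) (Subtype.ext hk)) U
      have h1 := hc _ (Subgroup.mem_zpowers _)
      rw [hU, Subgroup.mem_subgroupOf, mem_autInducedBy_iff] at h1
      push_cast at h1
      obtain ⟨s, hs, hsn, hsx⟩ := h1
      obtain ⟨φ', hφ', hφ'φ, -⟩ := hφ.symm
      have hψ : Iso F R'' R (apl (c : MulAut R) ∘ φ') := hφ'.comp (iso_apl hRS c.2)
      have hconj : ∀ y ∈ R'', (apl (c : MulAut R) ∘ φ') (t * y * t⁻¹) =
          s * (apl (c : MulAut R) ∘ φ') y * s⁻¹ := fun y hy => by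
        obtain ⟨x, hx, rfl⟩ := hφ.exists_eq hy
        show apl (c : MulAut R) (φ' (t * φ x * t⁻¹)) = s * apl (c : MulAut R) (φ' (φ x)) * s⁻¹
        rw [← hφx x hx, hφ'φ _ (apl_mem a hx), hφ'φ x hx, ← hsx _ (apl_mem _ hx),
          apl_mul _ _ (apl_mem _ hx), apl_inv_apl _ hx, apl_mul _ _ hx]
      obtain ⟨l, hl, hlψ⟩ := (isReceptive_iff.1 hrec).2 R'' _ hψ
      have htn : t ∈ nPhi S R'' (apl (c : MulAut R) ∘ φ') :=
        mem_nPhi.2 ⟨h.T_le ht.1, ht.2, s, hs, hconj⟩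
      have hlT : l t ∈ T := StronglyClosed.mor_mem h.sc hl htn ht.1
      have hlx : ∀ x ∈ R, l t * x * (l t)⁻¹ = s * x * s⁻¹ := fun x hx => by
        obtain ⟨y, hy, rfl⟩ := hψ.exists_eq hx
        have hy' := (Subgroup.mem_normalizer_iff.1 ht.2 y).1 hy
        rw [← hconj y hy, ← hlψ _ hy', hl.map_conj htn (hψ.1.le_nPhi hy), hlψ y hy]
      have hln : l t ∈ normalizerIn S R := by
        refine ⟨h.T_le hlT, mem_normalizer_of_conj_mem fun x hx => ?_⟩
        rw [hlx x hx]; exact (Subgroup.mem_normalizer_iff.1 hsn x).1 hx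
      obtain ⟨μ, hμ, hμx⟩ := exists_mem_autInducedBy (P := cc S R) hlT (h.mem_normalizer_ccS hR hln)
      obtain ⟨l', hl', hl'c⟩ := (isReceptive_iff.1 hrec).2 R _ (iso_apl hRS c.2)
      have hle : cc S R ≤ nPhi S R (apl (c : MulAut R)) :=
        sup_le (iso_apl (F := F) hRS c.2).1.le_nPhi centralizerIn_le_nPhi
      obtain ⟨ĉ, hĉ, hĉx⟩ := (image_cc stronglyClosed_self (hl'.mono hle)
        ((iso_apl (F := F) hRS c.2).congr hl'c) le_rfl).1.exists_mem_autGroup
      refine ⟨ĉ⁻¹ * μ * ĉ⁻¹⁻¹, h.HH_normal hR hn (inv_mem hĉ) (h.autT_le_HH hμ), fun x hx => ?_⟩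
      have hcx : apl ĉ x = apl (c : MulAut R) x := by rw [hĉx x (le_cc hx), hl'c x hx]
      rw [inv_inv, apl_mul _ _ (le_cc hx), apl_mul _ _ (apl_mem ĉ (le_cc hx)), hcx,
        hμx _ (le_cc (apl_mem _ hx)), hlx _ (apl_mem _ hx), ← hsx _ (apl_mem _ hx),
        apl_mul _ _ (apl_mem _ hx), apl_inv_apl _ hx, apl_mul _ _ hx]
      have e : apl ĉ (apl a x) = apl (c : MulAut R) (apl a x) := by
        rw [hĉx _ (le_cc (apl_mem a hx)), hl'c _ (apl_mem a hx)]
      rw [← e, apl_inv_apl ĉ (le_cc (apl_mem a hx))]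
    · obtain ⟨η, hη, hco, hηx⟩ :=
        h.res0_of_gen hR (fullyCentralized_of_fullyNormalized h.pS h.sat hn) ha
      exact ⟨η, h.mem_HH_of_coprime hη hco, hηx⟩
  | one => exact ⟨1, one_mem _, fun x hx => by rw [apl_one (le_cc hx), apl_one hx]⟩
  | mul a b _ _ ha hb =>
    obtain ⟨A, hA, hAx⟩ := ha
    obtain ⟨B, hB, hBx⟩ := hb
    exact ⟨A * B, mul_mem hA hB, fun x hx => by
      rw [apl_mul _ _ (le_cc hx), hBx x hx, hAx _ (apl_mem b hx), apl_mul _ _ hx]⟩
  | inv a _ ha =>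
    obtain ⟨A, hA, hAx⟩ := ha
    refine ⟨A⁻¹, inv_mem hA, fun x hx => ?_⟩
    have h1 := hAx _ (apl_mem a⁻¹ hx)
    rw [apl_apl_inv a hx] at h1
    conv_lhs => rw [← h1]
    rw [apl_inv_apl A (le_cc (apl_mem a⁻¹ hx))]

/-- The `p'`-elements are in the `p'`-part. -/
theorem gen_of_coprime (hR : TC F T R) {α : MulAut R} (hα : α ∈ AA p F E₁ E₂ T R)
    (hco : (orderOf α).Coprime p) : Gen p F E₁ E₂ R α := by
  refine ⟨AA_le hα, fun R' g hg hc => ?_⟩
  have hR' := hR.of_iso h.sc hg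
  haveI := finite_of_le (h.le_S hR')
  obtain ⟨P, k, hP, -, hki, -⟩ := exists_fullyNormalized_mor h.pS h.sat (h.le_S hR')
  have hPT := hR'.of_iso h.sc hki
  have hPc := fullyCentralized_of_fullyNormalized h.pS h.sat hP
  have hα' := equiv_AA (hg.comp hki) hα
  obtain ⟨η, hη, hηx⟩ := h.exists_HH hPT hP hα'
  haveI := finite_of_le (h.cc_le_S hPT)
  obtain ⟨η', hη', -, hco', hη'x⟩ := exists_coprime_ext (le_cc (U := S) (R := P)) hη hηx
    (by rw [orderOf_conjAut]; exact hco)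
  obtain ⟨k', hk', hk'k, -⟩ := hki.symm
  have h1 := h.res0_transport hPT hPc hc hk' (γ := (hg.comp hki).conjAut α)
    ⟨η', h.HH_le_XX hPT hη', hco', hη'x⟩
  rwa [← conjAut_comp hg hki (hg.comp hki) α, conjAut_inv hki hk' hk'k] at h1

/-- The automorphisms induced by `T` form a Sylow subgroup at a fully normalized subgroup. -/
theorem syl_AA (hR : TC F T R) (hn : F.IsFullyNormalized R) :
    SylIn p (autInducedBy T R) (AA p F E₁ E₂ T R) := by
  haveI := finite_of_le (h.le_S hR)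
  haveI : Finite (MulAut R) := Finite.of_injective _ MulEquiv.toEquiv_injective
  haveI := finite_of_le (h.cc_le_S hR)
  haveI : Finite (MulAut (cc S R)) := Finite.of_injective _ MulEquiv.toEquiv_injective
  have hRQ : R ≤ cc S R := le_cc
  have hle : HH p F E₁ E₂ T R ≤ stab (cc S R) R := fun η hη =>
    mem_stab.2 fun x _ hxR => h.apl_mem_R hR (h.HH_le hR hη) hxR
  let ρ := (resHom hRQ).comp (Subgroup.inclusion hle)
  have hρ : ∀ (η : HH p F E₁ E₂ T R) (x : Ω), x ∈ R → apl (ρ η) x = apl (η : MulAut (cc S R)) x :=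
    fun η x hx => resHom_apl hRQ _ hx
  let A := (autInducedBy T (cc S R)).subgroupOf (HH p F E₁ E₂ T R)
  have e1 : (A.map ρ.rangeRestrict).map ρ.range.subtype = autInducedBy T R := by
    rw [Subgroup.map_map, MonoidHom.subtype_comp_rangeRestrict]
    refine le_antisymm ?_ fun τ hτ => ?_
    · rintro _ ⟨η, hη, rfl⟩
      obtain ⟨t, ht, htn, htx⟩ := mem_autInducedBy_iff.1 (Subgroup.mem_subgroupOf.1 hη)
      exact mem_autInducedBy_iff.2 ⟨t, ht, (h.mem_normalizer_of_cc hR ⟨h.T_le ht, htn⟩).2,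
        fun x hx => by rw [hρ η x hx, htx x (hRQ hx)]⟩
    · obtain ⟨t, ht, htn, htx⟩ := mem_autInducedBy_iff.1 hτ
      obtain ⟨μ, hμ, hμx⟩ := exists_mem_autInducedBy (P := cc S R) ht
        (h.mem_normalizer_ccS hR ⟨h.T_le ht, htn⟩)
      exact ⟨⟨μ, h.autT_le_HH hμ⟩, hμ, apl_ext fun x hx => by
        rw [hρ _ x hx, htx x hx, hμx x (hRQ hx)]⟩
  have hrange : AA p F E₁ E₂ T R ≤ ρ.range := fun α hα => by
    obtain ⟨η, hη, hηx⟩ := h.exists_HH hR hn hα
    exact ⟨⟨η, hη⟩, apl_ext fun x hx => by rw [hρ _ x hx, hηx x hx]⟩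
  have hd : ¬ p ∣ (autInducedBy T R).relIndex ρ.range := fun hd => (h.sylIn_HH hR hn).2 (hd.trans (by
    have h1 := A.index_map_dvd (f := ρ.rangeRestrict) ρ.rangeRestrict_surjective
    have e2 : (A.map ρ.rangeRestrict).index = (autInducedBy T R).relIndex ρ.range := by
      rw [← e1, Subgroup.relIndex, ← Subgroup.comap_subtype,
        Subgroup.comap_map_eq_self_of_injective (Subgroup.subtype_injective _)]
    rwa [e2] at h1))
  exact sylIn_mono (H := ρ.range) ⟨(autT_AA (h.le_S hR) h.T_le).trans hrange, hd⟩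
    (autT_AA (h.le_S hR) h.T_le) hrange

/-- The groups lie in every weakly normal subsystem containing the data. -/
theorem AA_le_sub {U : Subgroup Ω} {E : FusionSystem U} (hE : E.IsWeaklyNormalIn F p) (hTU : T ≤ U)
    (hm : ∀ {P : Subgroup Ω} {η : MulAut (cc S P)}, TC F T P → η ∈ XX F E₁ E₂ P →
      Mor E (cc U P) (apl η)) (hR : TC F T R) : AA p F E₁ E₂ T R ≤ E.autGroup R := by
  refine (Subgroup.closure_le _).2 fun α hα => ?_
  rcases hα with ⟨haF, R'', φ, t, ht, hφ, hφx⟩ | ⟨haF, hg⟩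
  · have hR''T : R'' ≤ T := iso_le_T h.sc hφ hR.1
    obtain ⟨τ, hτ, hτx⟩ := exists_mem_autInducedBy (P := R'') (K := T) ht.1 ht.2
    obtain ⟨φ', hφ', hφ'φ, -⟩ := hφ.symm
    have h1 := conjAut_mem_of_isInvariant hE.2.2 (hR''T.trans hTU) hφ'
      (autInducedBy_le_autGroup (hR''T.trans hTU) (autInducedBy_mono hTU hτ))
    have e : hφ.conjAut α = τ := apl_ext fun y hy => by
      rw [hτx y hy]
      exact hφ.conjAut_eq_conj hφx y hy
    rwa [← e, conjAut_inv hφ hφ' hφ'φ] at h1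
  · obtain ⟨P, k, hP, -, hki, -⟩ := exists_fullyNormalized_mor h.pS h.sat (h.le_S hR)
    have hPT := hR.of_iso h.sc hki
    obtain ⟨η, hη, -, hηx⟩ := hg P k hki (fullyCentralized_of_fullyNormalized h.pS h.sat hP)
    have hE' : hki.conjAut α ∈ E.autGroup P := by
      haveI := finite_of_le (hE.2.2.2.1.1 : U ≤ S)
      refine (mem_autGroup_iff (hPT.1.trans hTU)).2 (iso_of_stable
        (((hm hPT hη).mono le_cc).congr fun x hx => (hηx x hx).symm) fun x hx => apl_mem _ hx)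
    obtain ⟨k', hk', hk'k, -⟩ := hki.symm
    have h1 := conjAut_mem_of_isInvariant hE.2.2 (hPT.1.trans hTU) hk' hE'
    rwa [conjAut_inv hki hk' hk'k] at h1

end Pair

end Cfsg.Agent.FusSys.AM
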