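import Cfsg.Agent.FusSys.AMap.Meet.Normal

/-!
Automorphisms of normal subsystems at centralized subgroups; the meet is the largest one.
-/

set_option autoImplicit false
set_option linter.unusedSectionVars false
set_option linter.style.haveILetI false
set_option linter.unusedVariables false
set_option maxHeartbeats 400000

namespace Cfsg.Agent.FusSys.AM

open Cfsg Cfsg.FusionSystem Cfsg.Agent.FusSys

universe u

variable {Ω : Type u} [Group Ω] {S T T₁ T₂ : Subgroup Ω} {F : FusionSystem S} {D : FusionSystem T}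
variable {E₁ : FusionSystem T₁} {E₂ : FusionSystem T₂}
variable {R : Subgroup Ω} {f g : Ω → Ω} {p : ℕ}

/-- A normal subsystem paired with itself. -/
theorem pair_self (hS : IsPGroup p S) (hD : D.IsWeaklyNormalIn F p) : Pair p F T D D :=
  ⟨hS, hD.2.1, hD.2.2.2.1, hD, hD, le_rfl, le_rfl, inf_le_left⟩

variable [Fact p.Prime] [Finite S] (hS : IsPGroup p S)
include hS

/-- An automorphism group with Sylow subgroup from `T` and the given `p'`-elements. -/
theorem autGroup_le_of_coprime (hD : D.IsWeaklyNormalIn F p) (hRT : R ≤ T)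
    (hn : F.IsFullyNormalized R) {A : Subgroup (MulAut R)} (hA : autInducedBy T R ≤ A)
    (hco : ∀ γ ∈ D.autGroup R, (orderOf γ).Coprime p → γ ∈ A) : D.autGroup R ≤ A := by
  have hTS := hD.2.2.2.1.1
  haveI := finite_of_le hTS
  haveI := finite_of_le hn.1
  haveI : Finite (MulAut R) := Finite.of_injective _ MulEquiv.toEquiv_injective
  obtain ⟨-, U, hU⟩ := fullyAutomized_of_fullyNormalized (hS.to_le hTS) hD.1
    (fullyNormalized_in_sub hS hD.2.1 hD.2.2 hRT hn)
  intro α hα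
  have hmem : (⟨α, hα⟩ : D.autGroup R) ∈ (⊤ : Subgroup (D.autGroup R)) := Subgroup.mem_top _
  rw [← Cfsg.Agent.Fusion.sylow_sup_pResidual U] at hmem
  have hle : (U : Subgroup (D.autGroup R)) ⊔ pResidual p (D.autGroup R) ≤
      A.comap (D.autGroup R).subtype := sup_le
    (fun a ha => hA (by rw [hU] at ha; exact ha))
    ((Subgroup.closure_le _).2 fun a ha => hco a a.2 (by rw [Subgroup.orderOf_coe]; exact ha))
  exact hle hmem

/-- A normal subsystem agrees with the system made from its extendible automorphisms. -/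
theorem self_le (hD : D.IsNormalIn F p) : D ≤ (pair_self hS hD.1).meetSys := by
  obtain ⟨h, hh⟩ : ∃ h : Pair p F T D D, h = pair_self hS hD.1 := ⟨_, rfl⟩
  rw [← hh]
  haveI := h.amap.finite_T
  have hTC := TC.top (F := F) h.sc
  have hTn := h.top_fullyNormalized
  have htop : D.autGroup T ≤ h.meetSys.autGroup T := by
    rw [h.meet_autGroup hTC]
    refine autGroup_le_of_coprime hS hD.1 le_rfl hTn (autT_AA h.T_le h.T_le) fun γ hγ hγco => ?_
    refine Subgroup.subset_closure (Or.inr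
      (h.gen_of_res0 hTC (fullyCentralized_of_fullyNormalized h.pS h.sat hTn) ?_))
    haveI := finite_of_le (h.cc_le_S hTC)
    obtain ⟨β, hβ, hβx, hβC⟩ : ∃ β : MulAut (cc S T), β ∈ F.autGroup (cc S T) ∧
        (∀ x ∈ T, apl β x = apl γ x) ∧ ∀ c ∈ centralizerIn S T, c⁻¹ * apl β c ∈ T := by
      obtain ⟨β, hβ, hβT, hβC⟩ := hD.2 γ hγ
      refine ⟨β, hβ, fun x hx => ?_, fun c hc => ?_⟩
      · exact (apl_apply β (Subgroup.mem_sup_left hx)).trans
          ((hβT ⟨x, hx⟩).trans (apl_apply γ hx).symm)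
      · have h1 := (hβC ⟨c, Subgroup.mem_sup_right hc⟩ hc).1
        rw [← apl_apply β (Subgroup.mem_sup_right hc)] at h1
        exact h1
    have hmod : ∀ x ∈ cc S T, x⁻¹ * apl β x ∈ T := fun x hx =>
      mod_sup le_cc centralizer_le_cc le_cc cc_le_normalizer
        (fun y hy => by rw [hβx y hy]; exact T.mul_mem (T.inv_mem hy) (apl_mem γ hy)) hβC hx
    obtain ⟨β', hβ', hβ'z, hβ'co, hβ'x⟩ := exists_coprime_ext (le_cc (U := S)) hβ hβx hγco
    have hK : cc T T ≤ T := cc_le le_rfl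
    have hm : Mor D (cc T T) (apl β') :=
      ((iso_apl le_rfl hγ).1.mono hK).congr fun x hx => hβ'x x (hK hx)
    exact ⟨β', (h.mem_XX hTC).2 ⟨hβ', mod_zpow hmod hβ'z, hm, hm⟩, hβ'co, hβ'x⟩
  have hinv : h.meetSys.IsInvariantIn D := h.meet_normal₁.1.2.2
  refine le_iff_mor.2 fun P f hf => ?_
  obtain ⟨α, hα, e, he, hfe⟩ := exists_frattini hinv hf.le hf
  exact (he.comp (iso_apl le_rfl (htop hα)).1 fun x hx => he.mem_S hx).congr fun x hx => hfe x hx

/-- `p'`-automorphisms in a normal subsystem extend trivially modulo the subgroup. -/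
theorem res0_of_normal (hD : D.IsNormalIn F p) (hR : TC F T R) (hn : F.IsFullyNormalized R)
    {γ : MulAut R} (hγ : γ ∈ D.autGroup R) (hco : (orderOf γ).Coprime p) :
    Res0 p F D D R γ := by
  have h1 := (iso_apl hR.1 hγ).1
  have h2 := le_iff_mor.1 (self_le hS hD) R _ h1
  have h3 : γ ∈ (pair_self hS hD.1).meetSys.autGroup R :=
    (mem_autGroup_iff hR.1).2 ⟨h2, (iso_apl hR.1 hγ).2⟩
  rw [Pair.meet_autGroup _ hR] at h3
  exact (pair_self hS hD.1).res0_of_gen hR
    (fullyCentralized_of_fullyNormalized hS hD.1.2.1 hn) ((pair_self hS hD.1).gen_of_coprime hR h3 hco)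

/-- The extensions to `R C_S(R)` lie in the subsystems in which the normal one is normal. -/
theorem mor_of_normal {U : Subgroup Ω} {E : FusionSystem U} (hE : E.IsWeaklyNormalIn F p)
    (hDE : D.IsNormalIn E p) (hD : D.IsNormalIn F p) (hR : TC F T R)
    (hn : F.IsFullyNormalized R) {γ : MulAut R} (hγ : γ ∈ D.autGroup R)
    (hco : (orderOf γ).Coprime p) {η : MulAut (cc S R)} (hη : η ∈ XX F D D R)
    (hηco : (orderOf η).Coprime p) (hηx : ∀ x ∈ R, apl η x = apl γ x) :
    Mor E (cc U R) (apl η) := by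
  have hU := hE.2.2.2.1
  have hUS := hU.1
  haveI := finite_of_le hUS
  have hF := pair_self hS hD.1
  have hE' := pair_self (hS.to_le hUS) hDE.1
  have hTU : T ≤ U := hDE.1.2.2.2.1.1
  have hRU := hR.1.trans hTU
  have hRE : TC E T R := ⟨hR.1, fun Q hQ => hR.2 Q (isConj_of_sub hE.2.2.1 hQ)⟩
  have hnE := fullyNormalized_in_sub hS hE.2.1 hE.2.2 hRU hn
  obtain ⟨e, he, heco, hex⟩ := res0_of_normal (hS.to_le hUS) hDE hRE hnE hγ hco
  have heP := (hE'.mem_XX hRE).1 he
  have heP' := (hE'.mem_XX hRE).1 (Subgroup.inv_mem _ he)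
  have hP := (hF.mem_XX hR).1 hη
  have hKQ : cc U R ≤ cc S R := cc_mono hUS
  have hKU : cc U R ≤ U := cc_le hRU
  have hKS := hKU.trans hUS
  haveI := finite_of_le (hF.cc_le_S hR)
  haveI := finite_of_le hKS
  haveI := finite_of_le (hF.le_S hR)
  haveI : Finite (MulAut (cc U R)) := Finite.of_injective _ MulEquiv.toEquiv_injective
  have hs : η ∈ stab (cc S R) (cc U R) :=
    mem_stab.2 fun x _ hx => hF.apl_mem_cc hU hRU hR hP.1 hx
  have hr : ∀ x ∈ cc U R, apl (resHom hKQ ⟨η, hs⟩) x = apl η x := fun x hx => resHom_apl hKQ _ hx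
  have hν := resHom_mem (α := ⟨η, hs⟩) hKQ (hF.cc_le_S hR) hP.1
  have heF := autGroup_le_of_invariant hE.2.2 heP.1
  have hd := Subgroup.mul_mem _ (Subgroup.inv_mem _ heF) hν
  obtain ⟨k, hk⟩ := pow_eq_one_of_fix (F := F) hS le_cc hKS hd
    (fun x hx => by
      rw [apl_mul _ _ (le_cc hx), hr x (le_cc hx), hηx x hx, ← hex x hx, apl_inv_apl e (le_cc hx)])
    (fun x hx => by
      rw [apl_mul _ _ hx]
      have h1 := R.mul_mem (hP.2.1 x (hKQ hx))
        (heP'.2.1 _ (apl_mem (resHom hKQ ⟨η, hs⟩) hx))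
      rw [hr x hx] at h1 ⊢
      rwa [mul_assoc, mul_inv_cancel_left] at h1)
  have h1 := mem_of_coprime_mul (Γ := F.autGroup (cc U R)) (N := E.autGroup (cc U R))
    (x := resHom hKQ ⟨η, hs⟩) (d := e⁻¹ * resHom hKQ ⟨η, hs⟩)
    (fun a ha b hb => by
      have h2 := conjAut_mem_of_isInvariant hE.2.2 hKU (iso_apl hKS ha) hb
      rwa [conjAut_apl_iso hKS ha] at h2)
    (autGroup_le_of_invariant hE.2.2) hν hd hk
    (by rw [mul_inv_rev, inv_inv, mul_inv_cancel_left]; exact heP.1)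
    (Nat.Coprime.coprime_dvd_left ((orderOf_map_dvd _ _).trans (by rw [Subgroup.orderOf_mk])) hηco)
  exact (iso_apl hKU h1).1.congr fun x hx => (hr x hx).symm

/-- The meet is the largest such subsystem. -/
theorem le_meet (h : Pair p F T E₁ E₂) (hD : D.IsNormalIn F p) (h₁ : D.IsNormalIn E₁ p)
    (h₂ : D.IsNormalIn E₂ p) : D ≤ h.meetSys := by
  haveI := h.amap.finite_T
  refine le_of_aut_le (hS.to_le h.T_le) hD.1.1 fun R hR => ?_
  have hTC : TC F T R := hR.elim (fun e => e.symm ▸ TC.top h.sc) fun he =>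
    ⟨he.1.1, fun Q hQ => by
      obtain ⟨f, hf⟩ := isConj_iff.1 hQ
      exact centric_self (centric_of_mor hD.1.2.2 he.1 hf)⟩
  obtain ⟨P, k, hP, -, hki, -⟩ := exists_fullyNormalized_mor h.pS h.sat (h.le_S hTC)
  have hPT := hTC.of_iso h.sc hki
  intro α hα
  have h1 : hki.conjAut α ∈ AA p F E₁ E₂ T P := by
    refine autGroup_le_of_coprime hS hD.1 hPT.1 hP (autT_AA hP.1 h.T_le) (fun γ hγ hγco => ?_)
      (conjAut_mem_of_isInvariant hD.1.2.2 hTC.1 hki hα)
    obtain ⟨η, hη, hηco, hηx⟩ := res0_of_normal hS hD hPT hP hγ hγco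
    have hηP := ((pair_self hS hD.1).mem_XX hPT).1 hη
    exact Subgroup.subset_closure (Or.inr (h.gen_of_res0 hPT
      (fullyCentralized_of_fullyNormalized h.pS h.sat hP)
      ⟨η, (h.mem_XX hPT).2 ⟨hηP.1, hηP.2.1, mor_of_normal hS h.wn₁ h₁ hD hPT hP hγ hγco hη hηco hηx,
        mor_of_normal hS h.wn₂ h₂ hD hPT hP hγ hγco hη hηco hηx⟩, hηco, hηx⟩))
  obtain ⟨k', hk', hk'k, -⟩ := hki.symm
  have h2 := equiv_AA hk' h1
  rw [conjAut_inv hki hk' hk'k] at h2
  rw [h.meet_autGroup hTC]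
  exact h2

end Cfsg.Agent.FusSys.AM
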