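import Cfsg.Agent.FusSys.AMap.Meet.Restr
import Cfsg.Agent.FusSys.AMap.Sat

/-!
Lifting in the automorphism groups of the meet.
-/

set_option autoImplicit false
set_option linter.unusedSectionVars false
set_option linter.style.haveILetI false
set_option linter.unusedVariables false
set_option maxHeartbeats 400000

namespace Cfsg.Agent.FusSys.AM

open Cfsg Cfsg.FusionSystem Cfsg.Agent.FusSys

universe u

variable {Ω : Type u} [Group Ω] {S T T₁ T₂ : Subgroup Ω} {F : FusionSystem S}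
variable {E₁ : FusionSystem T₁} {E₂ : FusionSystem T₂}
variable {R R' Y W M : Subgroup Ω} {f g : Ω → Ω} {p : ℕ}

namespace Pair

variable (h : Pair p F T E₁ E₂) [Fact p.Prime] [Finite S]
include h

/-- An extension of an element at `R`, fully centralized, gives one at `M`. -/
theorem res0_ext (hR : TC F T R) (hRc : F.IsFullyCentralized R) (hRM : R ≤ M)
    (hM : M ≤ normalizerIn T R) {ν : MulAut ↥(M ⊔ centralizerIn S R)}
    (hν : ν ∈ F.autGroup (M ⊔ centralizerIn S R)) (hco : (orderOf ν).Coprime p)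
    (hνM : ∀ x ∈ M, apl ν x ∈ M) {η : MulAut (cc S R)} (hη : η ∈ XX F E₁ E₂ R)
    (hνη : ∀ x ∈ cc S R, apl ν x = apl η x) :
    ∃ α : MulAut M, (∀ x ∈ M, apl α x = apl ν x) ∧ Res0 p F E₁ E₂ M α := by
  have hMT : M ≤ T := hM.trans (normalizerIn_le _ _)
  have hMS : M ≤ S := hMT.trans h.T_le
  obtain ⟨W, hW⟩ : ∃ W, W = M ⊔ centralizerIn S R := ⟨_, rfl⟩
  subst hW
  have hWS : M ⊔ centralizerIn S R ≤ S := sup_le hMS inf_le_left
  haveI := finite_of_le hWS
  haveI := finite_of_le hMS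
  have hP := (h.mem_XX hR).1 hη
  have hQW : cc S R ≤ M ⊔ centralizerIn S R := sup_le_sup_right hRM _
  have hMW : M ≤ M ⊔ centralizerIn S R := le_sup_left
  have hWR : M ⊔ centralizerIn S R ≤ Subgroup.normalizer (R : Set Ω) :=
    sup_le (hM.trans inf_le_right) (inf_le_right.trans (Subgroup.centralizer_le_normalizer _))
  have hWM : M ⊔ centralizerIn S R ≤ Subgroup.normalizer (M : Set Ω) := by
    refine sup_le Subgroup.le_normalizer fun c hc => mem_normalizer_of_conj_mem fun y hy => ?_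
    have hd : c * y * c⁻¹ * y⁻¹ ∈ R := by
      refine hR.cc_inter h.sc ?_ (T.mul_mem
        ((Subgroup.mem_normalizer_iff.1 (h.T_normalized hc.1) y).1 (hMT hy)) (T.inv_mem (hMT hy)))
      have h1 := mul_mem (centralizer_le_cc hc)
        (conj_mem_cc (U := S) (hM hy).2 (normalizer_self (hMS hy)) (inv_mem (centralizer_le_cc hc)))
      convert h1 using 1
      group
    have := M.mul_mem (hRM hd) hy
    rwa [inv_mul_cancel_right] at this
  have hmod : ∀ x ∈ M ⊔ centralizerIn S R, x⁻¹ * apl ν x ∈ M := fun x hx =>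
    mod_sup hMW le_sup_right hMW hWM
      (fun y hy => mul_mem (inv_mem hy) (hνM y hy))
      (fun c hc => by
        rw [hνη c (centralizer_le_cc hc)]
        exact hRM (hP.2.1 c (centralizer_le_cc hc))) hx
  have hQMW : cc S M ≤ M ⊔ centralizerIn S R :=
    sup_le_sup le_rfl (inf_le_inf_left S (Subgroup.centralizer_le hRM))
  have hνs : ν ∈ stab (M ⊔ centralizerIn S R) (cc S M) := mem_stab.2 fun x hx hx' => by
    have := mul_mem hx' (le_cc (hmod x hx))
    rwa [mul_inv_cancel_left] at this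
  have e : ∀ x ∈ cc S M, apl (resHom hQMW ⟨ν, hνs⟩) x = apl ν x := fun x hx =>
    resHom_apl hQMW _ hx
  have side : ∀ {U : Subgroup Ω} {E : FusionSystem U}, E.IsWeaklyNormalIn F p → T ≤ U →
      Mor E (cc U R) (apl η) → Mor E (cc U M) (apl (resHom hQMW ⟨ν, hνs⟩)) := by
    intro U E hE hTU hm
    have hU := hE.2.2.2.1
    have h1 := mor_ext_inter h.pS hE hWS
      (cc_centric h.pS h.sat hE.2.2.1 hU hRc (hR.1.trans hTU)) ((cc_mono hU.1).trans hQW)
      (fun w hw => mem_normalizer_cc hU.1 (h.le_S hR) (hWR hw)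
        (StronglyClosed.le_normalizer hU (hWS hw)))
      hν hco (fun x hx => by
        rw [hνη x (cc_mono hU.1 hx)]; exact h.apl_mem_cc hU (hR.1.trans hTU) hR hP.1 hx)
      (hm.congr fun x hx => hνη x (cc_mono hU.1 hx))
    exact (h1.mono (le_inf ((cc_mono hU.1).trans hQMW) (cc_le (hMT.trans hTU)))).congr fun x hx =>
      e x (cc_mono hU.1 hx)
  have hMT' := hR.mono hRM hMT
  have hζ : resHom hQMW ⟨ν, hνs⟩ ∈ XX F E₁ E₂ M := (h.mem_XX hMT').2 ⟨resHom_mem hQMW hWS hν,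
    fun x hx => by rw [e x hx]; exact hmod x (hQMW hx),
    side h.wn₁ h.le₁ hP.2.2.1, side h.wn₂ h.le₂ hP.2.2.2⟩
  have hνs' : ν ∈ stab (M ⊔ centralizerIn S R) M := mem_stab.2 fun x _ hx => hνM x hx
  exact ⟨resHom hMW ⟨ν, hνs'⟩, fun x hx => resHom_apl hMW _ hx, _, hζ,
    Nat.Coprime.coprime_dvd_left ((orderOf_map_dvd _ _).trans (by rw [Subgroup.orderOf_mk])) hco,
    fun x hx => by rw [e x (le_cc hx), resHom_apl hMW _ hx]⟩

/-- The lifting. -/
theorem lift (hR : TC F T R) (hn : F.IsFullyNormalized R) (hRM : R < M) (hM : M ≤ normalizerIn T R)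
    {σ : MulAut R} (hσ : σ ∈ AA p F E₁ E₂ T R) (hco : (orderOf σ).Coprime p)
    (hconj : ∀ τ ∈ autInducedBy M R, σ * τ * σ⁻¹ ∈ autInducedBy M R) :
    ∃ α ∈ AA p F E₁ E₂ T M, ∀ x ∈ R, apl α x = apl σ x := by
  have hRc := fullyCentralized_of_fullyNormalized h.pS h.sat hn
  have hMT : M ≤ T := hM.trans (normalizerIn_le _ _)
  have hMS : M ≤ S := hMT.trans h.T_le
  have hTM := hR.mono hRM.le hMT
  have hRS := h.le_S hR
  have hQS := h.cc_le_S hR
  haveI := finite_of_le hMS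
  obtain ⟨η, hη, hηco, hηx⟩ := h.res0_of_gen hR hRc (h.gen_of_coprime hR hσ hco)
  have hP := (h.mem_XX hR).1 hη
  have hηH : η ∈ HH p F E₁ E₂ T R := h.mem_HH_of_coprime hη hηco
  obtain ⟨k, hk, hkη⟩ := (isReceptive_iff.1 (h.receptive_cc hR hn)).2 _ _ (iso_apl hQS hP.1)
  have hkm : ∀ m ∈ M, m ∈ nPhi S (cc S R) (apl η) ∧ k m ∈ M := by
    intro m hm
    have hmQ := h.mem_normalizer_ccS hR ⟨hMS hm, (hM hm).2⟩
    obtain ⟨μ, hμ, hμx⟩ := exists_mem_autInducedBy (P := cc S R) (hMT hm) hmQ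
    obtain ⟨τ, hτ, hτx⟩ := exists_mem_autInducedBy (P := R) hm (hM hm).2
    obtain ⟨m', hm', hm'n, hm'x⟩ := mem_autInducedBy_iff.1 (hconj τ hτ)
    obtain ⟨μ', hμ', hμ'x⟩ := exists_mem_autInducedBy (P := cc S R) (hMT hm')
      (h.mem_normalizer_ccS hR ⟨hMS hm', hm'n⟩)
    have hmem : η * μ * η⁻¹ * μ'⁻¹ ∈ HH p F E₁ E₂ T R :=
      mul_mem (mul_mem (mul_mem hηH (h.autT_le_HH hμ)) (inv_mem hηH)) (inv_mem (h.autT_le_HH hμ'))
    have hconjR : ∀ x ∈ R, apl σ (m * x * m⁻¹) = m' * apl σ x * m'⁻¹ := fun x hx => by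
      rw [← hm'x _ (apl_mem σ hx), apl_mul _ _ (apl_mem σ hx), apl_inv_apl σ hx, apl_mul _ _ hx,
        hτx x hx]
    obtain ⟨z, hz, hzx⟩ := h.ker_HH hR hn hmem fun y hy => by
      have hy' : apl μ'⁻¹ y ∈ R := h.apl_mem_R hR (h.HH_le hR (inv_mem (h.autT_le_HH hμ'))) hy
      obtain ⟨x, hx, hxy⟩ : ∃ x ∈ R, apl σ x = apl μ'⁻¹ y :=
        ⟨apl σ⁻¹ (apl μ'⁻¹ y), apl_mem _ hy', apl_apl_inv σ hy'⟩
      have hmx := (Subgroup.mem_normalizer_iff.1 (hM hm).2 x).1 hx
      rw [apl_mul _ _ (le_cc hy), ← hxy, apl_mul _ _ (le_cc (apl_mem σ hx)),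
        apl_mul _ _ (apl_mem _ (le_cc (apl_mem σ hx))),
        show apl η⁻¹ (apl σ x) = x from by rw [← hηx x hx, apl_inv_apl η (le_cc hx)],
        hμx x (le_cc hx), hηx _ hmx, hconjR x hx,
        hxy, ← hμ'x _ (le_cc hy'), apl_apl_inv μ' (le_cc hy)]
    have hact : ∀ x ∈ cc S R, apl η (m * x * m⁻¹) = z * m' * apl η x * (z * m')⁻¹ := by
      intro x hx
      have hy := apl_mem η hx
      have hy' := apl_mem μ' hy
      have h1 := hzx _ hy'
      rw [apl_mul _ _ hy', apl_inv_apl μ' hy, apl_mul _ _ hy, apl_inv_apl η hx, apl_mul _ _ hx,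
        hμx x hx, hμ'x _ hy] at h1
      rw [h1]
      group
    have hzm : z * m' ∈ M := mul_mem (hRM.le hz) hm'
    have hmN : m ∈ nPhi S (cc S R) (apl η) := mem_nPhi.2 ⟨hMS hm, hmQ, _, hMS hzm, hact⟩
    refine ⟨hmN, ?_⟩
    have hkT : k m ∈ T := StronglyClosed.mor_mem h.sc hk hmN (hMT hm)
    have hd : (z * m')⁻¹ * k m ∈ R := hR.mem h.sc (mul_mem (inv_mem (hMT hzm)) hkT) fun y hy => by
      obtain ⟨x, hx, rfl⟩ := (h.iso_R hR hP.1).exists_eq hy
      have hmx := (Subgroup.mem_normalizer_iff.1 hmQ x).1 (le_cc hx)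
      have e1 : k m * apl η x * (k m)⁻¹ = z * m' * apl η x * (z * m')⁻¹ := by
        rw [← hact x (le_cc hx), ← hkη x (le_cc hx), ← hkη _ hmx,
          hk.map_conj hmN ((iso_apl (F := F) hQS hP.1).1.le_nPhi (le_cc hx))]
      calc (z * m')⁻¹ * k m * apl η x * ((z * m')⁻¹ * k m)⁻¹
          = (z * m')⁻¹ * (k m * apl η x * (k m)⁻¹) * (z * m') := by group
        _ = apl η x := by rw [e1]; group
    have := M.mul_mem hzm (hRM.le hd)
    rwa [mul_inv_cancel_left] at this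
  obtain ⟨W, hW⟩ : ∃ W, W = M ⊔ centralizerIn S R := ⟨_, rfl⟩
  have hWS : W ≤ S := hW ▸ sup_le hMS inf_le_left
  haveI := finite_of_le hWS
  have hMW : M ≤ W := hW ▸ le_sup_left
  have hCW : centralizerIn S R ≤ W := hW ▸ le_sup_right
  have hQW : cc S R ≤ W := hW ▸ sup_le_sup_right hRM.le _
  have hkW := hk.mono (show W ≤ nPhi S (cc S R) (apl η) from hW ▸ sup_le (fun m hm => (hkm m hm).1)
    (centralizer_le_cc.trans (iso_apl (F := F) hQS hP.1).1.le_nPhi))
  obtain ⟨ν₀, hν₀, hν₀x⟩ := (iso_of_stable hkW fun x hx => maps_sup hkW hMW hCW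
    (fun m hm => hMW (hkm m hm).2) (fun c hc => by
      rw [hkη c (centralizer_le_cc hc)]; exact hQW (apl_mem η (centralizer_le_cc hc)))
    (hW ▸ hx : x ∈ M ⊔ centralizerIn S R)).exists_mem_autGroup
  haveI := finite_of_le hQS
  obtain ⟨ν, hν, hνz, hνco, hνx⟩ := exists_coprime_ext hQW hν₀
    (fun x hx => by rw [hν₀x x (hQW hx), hkη x hx]) hηco
  have hνM : ∀ x ∈ M, apl ν x ∈ M := fun x hx => by
    have hs : ν₀ ∈ stab W M := mem_stab.2 fun y hy hy' => by rw [hν₀x y hy]; exact (hkm y hy').2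
    exact mem_stab.1 (Subgroup.zpowers_le.2 hs hνz) x (hMW hx) hx
  -- to a fully normalized member of the class of `M`
  obtain ⟨M', j, hM', hj, hji, hjm⟩ := exists_fullyNormalized_mor h.pS h.sat hMS
  have hcM : ∀ c ∈ centralizerIn S R, c ∈ normalizerIn S M := fun c hc => by
    refine ⟨hc.1, mem_normalizer_of_conj_mem fun y hy => ?_⟩
    have hd : c * y * c⁻¹ * y⁻¹ ∈ R := by
      refine hR.cc_inter h.sc ?_ (T.mul_mem
        ((Subgroup.mem_normalizer_iff.1 (h.T_normalized hc.1) y).1 (hMT hy)) (T.inv_mem (hMT hy)))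
      have h1 := mul_mem (centralizer_le_cc hc)
        (conj_mem_cc (U := S) (hM hy).2 (normalizer_self (hMS hy)) (inv_mem (centralizer_le_cc hc)))
      convert h1 using 1
      group
    have := M.mul_mem (hRM.le hd) hy
    rwa [inv_mul_cancel_right] at this
  have hWN : W ≤ normalizerIn S M := hW ▸ sup_le (le_normalizerIn hMS) hcM
  have hjW := hj.mono hWN
  obtain ⟨R', hR'⟩ := (hjW.mono (hRM.le.trans hMW)).exists_iso
  have hR'T := hR.of_iso h.sc hR'
  have hM'T := hTM.of_iso h.sc hji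
  have hjQ := hjW.mono hQW
  have hR'c : F.IsFullyCentralized R' := ⟨hR'.right_le, fun Q hQ =>
    (hRc.2 Q (isConj_trans hR'.isConj hQ)).trans ((hjQ.mono centralizer_le_cc).card_image_le
      inf_le_left fun c hc => centralizerIn_image stronglyClosed_self hjQ hR' hc)⟩
  obtain ⟨hQi, hsurj⟩ := image_cc stronglyClosed_self hjQ hR' (hRc.2 R' hR'.isConj)
  have hWi : Iso F W (M' ⊔ centralizerIn S R') j := ⟨hjW, fun y => ⟨fun hy => by
      rw [Subgroup.sup_eq_closure] at hy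
      induction hy using Subgroup.closure_induction with
      | mem z hz =>
        rcases hz with hz | hz
        · obtain ⟨x, hx, rfl⟩ := hji.exists_eq hz; exact ⟨x, hMW hx, rfl⟩
        · obtain ⟨x, hx, rfl⟩ := hsurj z hz; exact ⟨x, hCW hx, rfl⟩
      | one => exact ⟨1, one_mem _, hjW.map_one⟩
      | mul a b _ _ iha ihb =>
        obtain ⟨x, hx, rfl⟩ := iha
        obtain ⟨x', hx', rfl⟩ := ihb
        exact ⟨x * x', mul_mem hx hx', hjW.map_mul hx hx'⟩
      | inv a _ iha =>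
        obtain ⟨x, hx, rfl⟩ := iha
        exact ⟨x⁻¹, inv_mem hx, hjW.map_inv hx⟩,
    fun ⟨x, hx, hxy⟩ => hxy ▸ maps_sup hjW hMW hCW
      (fun m hm => Subgroup.mem_sup_left (hji.mem hm))
      (fun c hc => Subgroup.mem_sup_right (centralizerIn_image stronglyClosed_self hjQ hR' hc))
      (hW ▸ hx : x ∈ M ⊔ centralizerIn S R)⟩⟩
  have hR'M' : R' ≤ M' := fun y hy => by
    obtain ⟨x, hx, rfl⟩ := hR'.exists_eq hy; exact hji.mem (hRM.le hx)
  have hM'n : M' ≤ normalizerIn T R' := fun y hy => by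
    obtain ⟨x, hx, rfl⟩ := hji.exists_eq hy
    exact ⟨hM'T.1 (hji.mem hx), (hji.1.mem_normalizerIn hRM.le hR' hx (hM hx).2).2⟩
  obtain ⟨α, hαx, hα⟩ := h.res0_ext hR'T hR'c hR'M' hM'n (hWi.conjAut_mem hν)
    (by rw [orderOf_conjAut]; exact hνco)
    (fun y hy => by
      obtain ⟨x, hx, rfl⟩ := hji.exists_eq hy
      rw [hWi.conjAut_apl ν (hMW hx)]
      exact hji.mem (hνM x hx))
    (h.XX_transport hR hR'T hQi hη)
    (fun y hy => by
      obtain ⟨x, hx, rfl⟩ := hQi.exists_eq hy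
      rw [hWi.conjAut_apl ν (hQW hx), hQi.conjAut_apl η hx, hνx x hx])
  obtain ⟨j', hj', hj'j, -⟩ := hji.symm
  refine ⟨hj'.conjAut α, equiv_AA hj' (Subgroup.subset_closure (Or.inr
    (h.gen_of_res0 hM'T (fullyCentralized_of_fullyNormalized h.pS h.sat hM') hα))), fun x hx => ?_⟩
  have hxM := hRM.le hx
  have h1 := hj'.conjAut_apl α (hji.mem hxM)
  rwa [hj'j x hxM, hαx _ (hji.mem hxM), hWi.conjAut_apl ν (hMW hxM), hνx x (le_cc hx), hηx x hx,
    hj'j _ (hRM.le (apl_mem σ hx))] at h1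

/-- The family of the meet. -/
theorem amap : AMap p F T (AA p F E₁ E₂ T) where
  pS := h.pS
  sat := h.sat
  sc := h.sc
  le _ := AA_le
  autT hP := autT_AA (h.le_S hP) h.T_le
  equiv hi _ _ hα := equiv_AA hi hα
  syl hP hn := h.syl_AA hP hn
  restr hR hRY hY hα hi := h.restr hR hRY hY hα hi
  lift hR hn hRM hM hσ hco hconj := h.lift hR hn hRM hM hσ hco hconj

end Pair

end Cfsg.Agent.FusSys.AM
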