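import Cfsg.Agent.FusSys.AMap.Meet.Lift
import Cfsg.Agent.FusSys.AutTSteps

/-!
The meet is normal in the system and in both subsystems.
-/

set_option autoImplicit false
set_option linter.unusedSectionVars false
set_option linter.style.haveILetI false
set_option linter.unusedVariables false
set_option maxHeartbeats 400000

namespace Cfsg.Agent.FusSys.AM

open Cfsg Cfsg.FusionSystem Cfsg.Agent.FusSys

universe u

variable {Ω : Type u} [Group Ω] {S T T₁ T₂ : Subgroup Ω} {F : FusionSystem S}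
variable {E₁ : FusionSystem T₁} {E₂ : FusionSystem T₂}
variable {R : Subgroup Ω} {f g : Ω → Ω} {p : ℕ}

namespace Pair

variable (h : Pair p F T E₁ E₂) [Fact p.Prime] [Finite S]
include h

/-- The meet. -/
def meetSys : FusionSystem T := h.amap.sys

theorem meet_weaklyNormal : h.meetSys.IsWeaklyNormalIn F p := h.amap.weaklyNormal

theorem meet_autGroup (hR : TC F T R) : h.meetSys.autGroup R = AA p F E₁ E₂ T R :=
  h.amap.autGroup_eq hR

theorem top_fullyNormalized : F.IsFullyNormalized T := by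
  refine ⟨h.T_le, fun Q hQ => ?_⟩
  obtain ⟨f, hf⟩ := isConj_iff.1 hQ
  rw [show Q = T from eq_of_le_of_card h.T_le (iso_le_T h.sc hf le_rfl) hf.card_eq.le]

/-- An element at `T` comes from the group there. -/
theorem exists_X_top {α : MulAut T} (hα : α ∈ h.meetSys.autGroup T) :
    ∃ η ∈ XX F E₁ E₂ T, ∀ x ∈ T, apl η x = apl α x := by
  have hTC := TC.top (F := F) h.sc
  rw [h.meet_autGroup hTC] at hα
  obtain ⟨η, hη, hηx⟩ := h.exists_HH hTC h.top_fullyNormalized hα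
  exact ⟨η, h.HH_le_XX hTC hη, hηx⟩

/-- The meet is normal. -/
theorem meet_normal : h.meetSys.IsNormalIn F p := by
  refine ⟨h.meet_weaklyNormal, fun α hα => ?_⟩
  have hTC := TC.top (F := F) h.sc
  obtain ⟨η, hη, hηx⟩ := h.exists_X_top hα
  have hP := (h.mem_XX hTC).1 hη
  refine ⟨η, hP.1, fun x => ?_, fun c hc => ?_⟩
  · have h1 := hηx x x.2
    rw [apl_apply η (le_cc x.2), apl_apply α x.2] at h1
    exact h1
  · have h1 := hP.2.1 c c.2
    rw [apl_coe η c] at h1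
    have hηc : apl η c ∈ centralizerIn S T :=
      centralizerIn_image stronglyClosed_self (iso_apl (h.cc_le_S hTC) hP.1).1 (h.iso_R hTC hP.1) hc
    rw [apl_coe η c] at hηc
    exact ⟨h1, Subgroup.mul_mem _ (Subgroup.inv_mem _ hc.2) hηc.2⟩

/-- The meet lies in a weakly normal subsystem containing the data and is normal there. -/
theorem meet_normal_sub {U : Subgroup Ω} {E : FusionSystem U} (hE : E.IsWeaklyNormalIn F p)
    (hTU : T ≤ U) (hm : ∀ {P : Subgroup Ω} {η : MulAut (cc S P)}, TC F T P → η ∈ XX F E₁ E₂ P →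
      Mor E (cc U P) (apl η)) : h.meetSys.IsNormalIn E p := by
  have hU := hE.2.2.2.1
  haveI := finite_of_le hU.1
  let M : Subgroup Ω → (Ω → Ω) → Prop := fun P f => Mor E P f ∧ P ≤ T ∧ ∀ x ∈ P, f x ∈ T
  have hM : SubRel F T M :=
    { congr := fun h1 he => ⟨h1.1.congr he, h1.2.1, fun x hx => by rw [he x hx]; exact h1.2.2 x hx⟩
      le := fun h1 => ⟨h1.2.1, h1.2.2⟩
      conj := fun {P t} hP ht => ⟨mor_conj (hP.trans h.T_le) (h.T_le ht),
        mor_conj (hP.trans hTU) (hTU ht), hP, fun x hx => T.mul_mem (T.mul_mem ht (hP hx)) (T.inv_mem ht)⟩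
      comp := fun _ h1 _ h2 hfR => ⟨h1.1.comp h2.1 hfR, h1.2.1, fun x hx => h2.2.2 _ (hfR x hx)⟩
      inv := fun {P Q f g} hf h1 hg hgf => by
        obtain ⟨k, hk, hkl, -⟩ := (show Iso E P Q f from ⟨h1.1, hf.2⟩).symm
        refine ⟨hk.1.congr fun y hy => ?_, fun y hy => ?_, fun y hy => h1.2.1 (hg.mem hy)⟩
        · obtain ⟨x, hx, rfl⟩ := hf.exists_eq hy
          rw [hgf x hx, hkl x hx]
        · obtain ⟨x, hx, rfl⟩ := hf.exists_eq hy
          exact h1.2.2 x hx }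
  have hsub : h.meetSys.IsSubsystemOf E := isSubsystemOf_iff_mor.2 fun P f hf =>
    ((h.amap.mor_sys.1 hf).2 M hM fun R α hR hα =>
      ⟨(iso_apl (hR.1.trans hTU) (h.AA_le_sub hE hTU hm hR hα)).1, hR.1,
        fun x hx => hR.1 (apl_mem α hx)⟩).1
  refine ⟨⟨h.meet_weaklyNormal.1, hE.1,
    AutT.invariant_of_le h.pS h.meet_weaklyNormal.2.2 hE.1 hE.2.2.1 hsub⟩, fun α hα => ?_⟩
  have hTC := TC.top (F := F) h.sc
  obtain ⟨η, hη, hηx⟩ := h.exists_X_top hα
  have hP := (h.mem_XX hTC).1 hη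
  have hKQ : cc U T ≤ cc S T := cc_mono hU.1
  haveI := finite_of_le (h.cc_le_S hTC)
  have hmem : ∀ x ∈ cc U T, apl η x ∈ cc U T := fun x hx => h.apl_mem_cc hU hTU hTC hP.1 hx
  obtain ⟨β, hβ, hβx⟩ := (iso_of_stable (F := E) (hm hTC hη) hmem).exists_mem_autGroup
  refine ⟨β, hβ, fun x => ?_, fun c hc => ?_⟩
  · have h1 := hβx x (le_cc x.2)
    rw [hηx x x.2, apl_apply β (le_cc x.2), apl_apply α x.2] at h1
    exact h1
  · have h1 := hP.2.1 c (hKQ c.2)
    rw [← hβx c c.2, apl_coe β c] at h1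
    have hc' : (c : Ω) ∈ centralizerIn S T := ⟨hU.1 hc.1, hc.2⟩
    have hηc : apl η c ∈ centralizerIn S T :=
      centralizerIn_image stronglyClosed_self (iso_apl (h.cc_le_S hTC) hP.1).1 (h.iso_R hTC hP.1) hc'
    rw [← hβx c c.2, apl_coe β c] at hηc
    exact ⟨h1, Subgroup.mul_mem _ (Subgroup.inv_mem _ hc.2) hηc.2⟩

theorem meet_normal₁ : h.meetSys.IsNormalIn E₁ p :=
  h.meet_normal_sub h.wn₁ h.le₁ fun hP hη => ((h.mem_XX hP).1 hη).2.2.1

theorem meet_normal₂ : h.meetSys.IsNormalIn E₂ p :=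
  h.meet_normal_sub h.wn₂ h.le₂ fun hP hη => ((h.mem_XX hP).1 hη).2.2.2

end Pair

end Cfsg.Agent.FusSys.AM
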