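import Cfsg.Agent.FusSys.AMap.Meet.Ext

/-!
Restriction of the automorphism groups of the meet.
-/

set_option autoImplicit false
set_option linter.unusedSectionVars false
set_option linter.style.haveILetI false
set_option linter.unusedVariables false
set_option maxHeartbeats 400000

namespace Cfsg.Agent.FusSys.AM

open Cfsg Cfsg.FusionSystem Cfsg.Agent.FusSys

universe u

variable {Ω : Type u} [Group Ω] {S T T₁ T₂ : Subgroup Ω} {F : FusionSystem S}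
variable {E₁ : FusionSystem T₁} {E₂ : FusionSystem T₂}
variable {R R' Y W M : Subgroup Ω} {f g : Ω → Ω} {p : ℕ}

namespace Pair

variable (h : Pair p F T E₁ E₂) [Fact p.Prime] [Finite S]
include h

/-- For `c` in `C_S(R)` the commutator with an extension is conjugation by an element of `R`. -/
theorem commutator_conj (hR : TC F T R) (hY : TC F T Y) (hYc : F.IsFullyCentralized Y)
    (hRY : R ≤ Y) (hYn : Y ≤ Subgroup.normalizer (R : Set Ω)) {η : MulAut (cc S Y)}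
    (hη : η ∈ OO p F E₁ E₂ Y) (hst : ∀ x ∈ R, apl η x ∈ R) {c : Ω} (hc : c ∈ centralizerIn S R)
    (hcQ : c ∈ Subgroup.normalizer (cc S Y : Set Ω)) :
    ∃ r ∈ R, ∀ x ∈ cc S Y, apl η (c * x * c⁻¹) = r * (c * apl η x * c⁻¹) * r⁻¹ := by
  have hQS := h.cc_le_S hY
  have hRQ : R ≤ cc S Y := hRY.trans le_cc
  haveI := finite_of_le hQS
  haveI : Finite (MulAut (cc S Y)) := Finite.of_injective _ MulEquiv.toEquiv_injective
  haveI := finite_of_le (h.le_S hR)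
  obtain ⟨γ, hγS, hγx⟩ := exists_mem_autInducedBy (P := cc S Y) hc.1 hcQ
  have hγ := autInducedBy_le_autGroup (F := F) hQS hγS
  have hηF := h.OO_le hY hη
  have hγR : ∀ x ∈ R, apl γ x = x := fun x hx => by rw [hγx x (hRQ hx), comm_of_mem hc hx]
  have hγR' : ∀ x ∈ R, apl γ⁻¹ x = x := fun x hx => by
    conv_lhs => rw [← hγR x hx]
    rw [apl_inv_apl γ (hRQ hx)]
  -- the commutator
  have ha : η * (γ * η⁻¹ * γ⁻¹) ∈ OO p F E₁ E₂ Y := mul_mem hη (h.OO_normal hY hγ (inv_mem hη))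
  have hηinv : ∀ x ∈ R, apl η⁻¹ x ∈ R := fun x hx => by
    obtain ⟨y, hy, hyx⟩ := ((iso_apl hQS hηF).1.mono hRQ).surj_of_card (h.le_S hR) hst le_rfl hx
    rw [← hyx, apl_inv_apl η (hRQ hy)]
    exact hy
  have hfix : ∀ x ∈ R, apl (η * (γ * η⁻¹ * γ⁻¹)) x = x := fun x hx => by
    rw [apl_mul _ _ (hRQ hx), apl_mul _ _ (hRQ hx), apl_mul _ _ (apl_mem _ (hRQ hx)), hγR' x hx,
      hγR _ (hηinv x hx), apl_apl_inv η (hRQ hx)]
  have haX := (h.mem_XX hY).1 (h.OO_le_XX ha)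
  have haF := haX.1
  obtain ⟨k, hk⟩ := pow_eq_one_of_fix₂ (F := F) h.pS hRY le_cc hQS haF hfix
    (fun x hx => hR.diff_mem h.sc ((iso_apl hQS haF).1.mono le_cc) hRY hfix hx (hY.1 hx) (hYn hx))
    haX.2.1
  -- at a fully normalized member
  obtain ⟨P, j, hP, -, hji, -⟩ := exists_fullyNormalized_mor h.pS h.sat (h.le_S hY)
  have hPT := hY.of_iso h.sc hji
  obtain ⟨l, hl, hlj⟩ := exists_iso_cc h.pS h.sat hYc
    (fullyCentralized_of_fullyNormalized h.pS h.sat hP) hji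
  have ha' := h.OO_transport hY hPT hl ha
  haveI := finite_of_le (h.cc_le_S hPT)
  haveI : Finite (MulAut (cc S P)) := Finite.of_injective _ MulEquiv.toEquiv_injective
  obtain ⟨b, hb, hbT⟩ := exists_conj_mem_of_sylIn
    (isPGroup_autInducedBy (h.pS.to_le h.T_le)) (h.sylIn_HH hPT hP)
    (isPGroup_zpowers_of_pow_eq_one (x := hl.conjAut (η * (γ * η⁻¹ * γ⁻¹))) (e := k)
      (by rw [← map_pow, hk, map_one]))
    (Subgroup.zpowers_le.2 (Subgroup.mem_sup_left ha'))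
  obtain ⟨t, ht, -, htx⟩ := mem_autInducedBy_iff.1 (hbT _ (Subgroup.mem_zpowers _))
  have hψ : Iso F (cc S Y) (cc S P) (apl b ∘ l) :=
    hl.comp (iso_apl (h.cc_le_S hPT) (h.HH_le hPT hb))
  have hψa : ∀ x ∈ cc S Y, (apl b ∘ l) (apl (η * (γ * η⁻¹ * γ⁻¹)) x) =
      t * (apl b ∘ l) x * t⁻¹ := fun x hx => by
    show apl b (l _) = t * apl b (l x) * t⁻¹
    rw [← hl.conjAut_apl _ hx, ← htx _ (apl_mem b (hl.mem hx)), apl_mul _ _ (apl_mem b (hl.mem hx)),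
      apl_inv_apl b (hl.mem hx), apl_mul _ _ (hl.mem hx)]
  obtain ⟨R₁, hR₁⟩ := (hψ.1.mono hRQ).exists_iso
  have htR : t ∈ R₁ := (hR.of_iso h.sc hR₁).mem h.sc ht fun y hy => by
    obtain ⟨x, hx, rfl⟩ := hR₁.exists_eq hy
    rw [← hψa x (hRQ hx), hfix x hx]
  obtain ⟨r, hr, rfl⟩ := hR₁.exists_eq htR
  refine ⟨r, hr, fun x hx => ?_⟩
  have hηx := apl_mem η hx
  have hy := (Subgroup.mem_normalizer_iff.1 hcQ _).1 hηx
  have h1 := hψa _ hy
  rw [← hψ.1.map_conj (hRQ hr) hy] at h1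
  have h2 := hψ.1.injOn (apl_mem _ hy) (mul_mem (mul_mem (hRQ hr) hy) (inv_mem (hRQ hr))) h1
  rw [← h2, apl_mul _ _ hy, apl_mul _ _ hy, apl_mul _ _ (apl_mem _ hy)]
  have e : apl γ⁻¹ (c * apl η x * c⁻¹) = apl η x := by
    rw [← hγx _ hηx, apl_inv_apl γ hηx]
  rw [e, apl_inv_apl η hx, hγx x hx]

/-- The `p'`-case of the restriction at a fully normalized subgroup. -/
theorem restr_core (hR : TC F T R) (hn : F.IsFullyNormalized R) (hYn : Y ≤ normalizerIn T R)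
    (hRY : R ≤ Y) (hYc : F.IsFullyCentralized Y) {α : MulAut Y}
    (hα : α ∈ AA p F E₁ E₂ T Y) (hco : (orderOf α).Coprime p) (hst : ∀ x ∈ R, apl α x ∈ R) :
    ∃ β ∈ AA p F E₁ E₂ T R, ∀ x ∈ R, apl β x = apl α x := by
  have hYT : Y ≤ T := hYn.trans (normalizerIn_le _ _)
  have hY := hR.mono hRY hYT
  have hYR : Y ≤ Subgroup.normalizer (R : Set Ω) := hYn.trans inf_le_right
  obtain ⟨η, hηX, hηco, hηx⟩ := h.res0_of_gen hY hYc (h.gen_of_coprime hY hα hco)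
  have hηP := (h.mem_XX hY).1 hηX
  have hRS := h.le_S hR
  have hYS := h.le_S hY
  obtain ⟨W, hW⟩ : ∃ W, W = Y ⊔ centralizerIn S R := ⟨_, rfl⟩
  have hWS : W ≤ S := hW ▸ sup_le hYS inf_le_left
  haveI := finite_of_le hWS
  haveI := finite_of_le hYS
  haveI := finite_of_le hRS
  have hYW : Y ≤ W := hW ▸ le_sup_left
  have hCW : centralizerIn S R ≤ W := hW ▸ le_sup_right
  have hQW : cc S Y ≤ W := sup_le hYW
    ((inf_le_inf_left S (Subgroup.centralizer_le hRY)).trans hCW)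
  have hWR : W ≤ Subgroup.normalizer (R : Set Ω) :=
    hW ▸ sup_le hYR (inf_le_right.trans (Subgroup.centralizer_le_normalizer _))
  have hcY : ∀ c ∈ centralizerIn S R, c ∈ Subgroup.normalizer (Y : Set Ω) := fun c hc =>
    mem_normalizer_of_conj_mem fun y hy => by
      have hd : c * y * c⁻¹ * y⁻¹ ∈ R := by
        refine hR.mem h.sc ?_ fun x hx => ?_
        · exact T.mul_mem ((Subgroup.mem_normalizer_iff.1 (h.T_normalized hc.1) y).1 (hYT hy))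
            (T.inv_mem (hYT hy))
        · have hx' := (Subgroup.mem_normalizer_iff''.1 (hYR hy) x).1 hx
          calc c * y * c⁻¹ * y⁻¹ * x * (c * y * c⁻¹ * y⁻¹)⁻¹
              = c * (y * (c⁻¹ * (y⁻¹ * x * y) * c) * y⁻¹) * c⁻¹ := by group
            _ = c * x * c⁻¹ := by
              rw [show c⁻¹ * (y⁻¹ * x * y) * c = y⁻¹ * x * y by
                conv_lhs => rw [← comm_of_mem hc hx']
                group]
              group
            _ = x := comm_of_mem hc hx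
      have := Y.mul_mem (hRY hd) hy
      rwa [inv_mul_cancel_right] at this
  have hWY : W ≤ Subgroup.normalizer (Y : Set Ω) := hW ▸ sup_le Subgroup.le_normalizer hcY
  have hηR : ∀ x ∈ R, apl η x ∈ R := fun x hx => by rw [hηx x (hRY hx)]; exact hst x hx
  -- the extension to `W`
  have hQc := cc_centric_self h.pS h.sat hYc
  obtain ⟨k, hk, hkη⟩ := (isReceptive_iff.1 (centric_receptive h.pS h.sat hQc)).2 _ _
    (iso_apl (h.cc_le_S hY) hηP.1)
  have hηO : η ∈ OO p F E₁ E₂ Y := Subgroup.subset_closure ⟨hηX, hηco⟩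
  have hkc : ∀ c ∈ centralizerIn S R, c ∈ nPhi S (cc S Y) (apl η) ∧ c⁻¹ * k c ∈ cc S Y := by
    intro c hc
    have hcQ : c ∈ Subgroup.normalizer (cc S Y : Set Ω) :=
      h.mem_normalizer_ccS hY ⟨hc.1, hcY c hc⟩
    obtain ⟨r, hr, hrx⟩ := h.commutator_conj hR hY hYc hRY hYR hηO hηR hc hcQ
    have hcN : c ∈ nPhi S (cc S Y) (apl η) := mem_nPhi.2 ⟨hc.1, hcQ, r * c,
      S.mul_mem (hRS hr) hc.1, fun x hx => by rw [hrx x hx]; group⟩
    refine ⟨hcN, ?_⟩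
    have hz : (r * c)⁻¹ * k c ∈ cc S Y := by
      refine centric_self hQc (mem_centralizerIn
        (S.mul_mem (S.inv_mem (S.mul_mem (hRS hr) hc.1)) (hk.mem_S hcN)) fun y hy => ?_)
      obtain ⟨x, hx, rfl⟩ := (iso_apl (F := F) (h.cc_le_S hY) hηP.1).exists_eq hy
      have hx' := (Subgroup.mem_normalizer_iff.1 hcQ x).1 hx
      have e1 : k c * apl η x * (k c)⁻¹ = r * (c * apl η x * c⁻¹) * r⁻¹ := by
        rw [← hrx x hx, ← hkη x hx, ← hkη _ hx',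
          hk.map_conj hcN ((iso_apl (F := F) (h.cc_le_S hY) hηP.1).1.le_nPhi hx)]
      calc (r * c)⁻¹ * k c * apl η x * ((r * c)⁻¹ * k c)⁻¹
          = c⁻¹ * r⁻¹ * (k c * apl η x * (k c)⁻¹) * r * c := by group
        _ = apl η x := by rw [e1]; group
    have e2 : c⁻¹ * k c = r * ((r * c)⁻¹ * k c) := by
      have e3 : r * c = c * r := (Subgroup.mem_centralizer_iff.1 hc.2) r hr
      calc c⁻¹ * k c = (c⁻¹ * (r * c)) * ((r * c)⁻¹ * k c) := by group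
        _ = r * ((r * c)⁻¹ * k c) := by rw [e3]; group
    rw [e2]
    exact mul_mem (hRY.trans le_cc hr) hz
  have hWN : W ≤ nPhi S (cc S Y) (apl η) :=
    hW ▸ sup_le (le_cc.trans (iso_apl (F := F) (h.cc_le_S hY) hηP.1).1.le_nPhi) fun c hc => (hkc c hc).1
  have hkW := hk.mono hWN
  have hkYW : ∀ x ∈ Y, k x ∈ W := fun x hx => by
    rw [hkη x (le_cc hx)]; exact hQW (apl_mem η (le_cc hx))
  have hkCW : ∀ c ∈ centralizerIn S R, k c ∈ W := fun c hc => by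
    have := W.mul_mem (hCW hc) (hQW (hkc c hc).2)
    rwa [mul_inv_cancel_left] at this
  obtain ⟨ν₀, hν₀, hν₀x⟩ := (iso_of_stable hkW fun x hx => maps_sup hkW hYW hCW hkYW hkCW
    (hW ▸ hx : x ∈ Y ⊔ centralizerIn S R)).exists_mem_autGroup
  have hQn : W ≤ Subgroup.normalizer (cc S Y : Set Ω) := fun w hw =>
    h.mem_normalizer_ccS hY ⟨hWS hw, hWY hw⟩
  have hmod₀ : ∀ x ∈ W, x⁻¹ * apl ν₀ x ∈ cc S Y := fun x hx =>
    mod_sup hYW hCW hQW hQn
      (fun y hy => by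
        rw [hν₀x y (hYW hy), hkη y (le_cc hy)]
        exact mul_mem (inv_mem (le_cc hy)) (apl_mem η (le_cc hy)))
      (fun c hc => by rw [hν₀x c (hCW hc)]; exact (hkc c hc).2)
      (hW ▸ hx : x ∈ Y ⊔ centralizerIn S R)
  haveI := finite_of_le (h.cc_le_S hY)
  obtain ⟨ν, hν, hνz, hνco, hνx⟩ := exists_coprime_ext hQW hν₀
    (fun x hx => by rw [hν₀x x (hQW hx), hkη x hx]) hηco
  have hνm := iso_apl (F := F) hWS hν
  have hνY : ∀ x ∈ W, x⁻¹ * apl ν x ∈ Y := fun x hx => mod_of_chain h.pS le_cc hQW hWS hWY hνco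
    (fun y hy => by rw [hνx y hy]; exact hηP.2.1 y hy) (mod_zpow hmod₀ hνz) hx
  have hνR : ∀ x ∈ R, apl ν x = apl α x := fun x hx => by
    rw [hνx x (le_cc (hRY hx)), hηx x (hRY hx)]
  have hνC : ∀ c ∈ centralizerIn S R, c⁻¹ * apl ν c ∈ R := fun c hc => by
    have h1 := hνY c (hCW hc)
    refine hR.mem h.sc (hYT h1) fun x hx => ?_
    obtain ⟨z, hz, rfl⟩ := ((hνm.1.mono (hRY.trans hYW)).surj_of_card hRS
      (fun y hy => by rw [hνR y hy]; exact hst y hy) le_rfl hx)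
    have hzW : z ∈ W := hYW (hRY hz)
    calc c⁻¹ * apl ν c * apl ν z * (c⁻¹ * apl ν c)⁻¹
        = c⁻¹ * (apl ν c * apl ν z * (apl ν c)⁻¹) * c := by group
      _ = c⁻¹ * apl ν (c * z * c⁻¹) * c := by rw [hνm.1.map_conj (hCW hc) hzW]
      _ = c⁻¹ * apl ν z * c := by rw [comm_of_mem hc hz]
      _ = apl ν z := by
        have hνz' : apl ν z ∈ R := by rw [hνR z hz]; exact hst z hz
        conv_lhs => rw [← comm_of_mem hc hνz']
        group
  -- restriction to `R C_S(R)`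
  have hQRW : cc S R ≤ W := sup_le (hRY.trans hYW) hCW
  have hmodR : ∀ x ∈ cc S R, x⁻¹ * apl ν x ∈ R := fun x hx =>
    mod_sup (hRY.trans hYW) hCW (hRY.trans hYW) hWR
      (fun y hy => by rw [hνR y hy]; exact mul_mem (inv_mem hy) (hst y hy)) hνC hx
  have hνs : ν ∈ stab W (cc S R) := mem_stab.2 fun x _ hx => by
    have := mul_mem hx (le_cc (hmodR x hx))
    rwa [mul_inv_cancel_left] at this
  have e : ∀ x ∈ cc S R, apl (resHom hQRW ⟨ν, hνs⟩) x = apl ν x := fun x hx =>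
    resHom_apl hQRW _ hx
  have side : ∀ {U : Subgroup Ω} {E : FusionSystem U}, E.IsWeaklyNormalIn F p → T ≤ U →
      Mor E (cc U Y) (apl η) → Mor E (cc U R) (apl (resHom hQRW ⟨ν, hνs⟩)) := by
    intro U E hE hTU hm
    have hU := hE.2.2.2.1
    have hKW : cc U Y ≤ W := (cc_mono hU.1).trans hQW
    have h1 := mor_ext_inter h.pS hE hWS
      (cc_centric h.pS h.sat hE.2.2.1 hU hYc (hYT.trans hTU)) hKW
      (fun w hw => mem_normalizer_cc hU.1 hYS (hWY hw) (StronglyClosed.le_normalizer hU (hWS hw)))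
      hν hνco (fun x hx => by
        rw [hνx x (cc_mono hU.1 hx)]; exact h.apl_mem_cc hU (hYT.trans hTU) hY hηP.1 hx)
      (hm.congr fun x hx => hνx x (cc_mono hU.1 hx))
    exact (h1.mono (le_inf ((cc_mono hU.1).trans hQRW) (cc_le (hR.1.trans hTU)))).congr fun x hx =>
      e x (cc_mono hU.1 hx)
  have hζ : resHom hQRW ⟨ν, hνs⟩ ∈ XX F E₁ E₂ R := (h.mem_XX hR).2 ⟨resHom_mem hQRW hWS hν,
    fun x hx => by rw [e x hx]; exact hmodR x hx,
    side h.wn₁ h.le₁ hηP.2.2.1, side h.wn₂ h.le₂ hηP.2.2.2⟩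
  have hαs : α ∈ stab Y R := mem_stab.2 fun x _ hxR => hst x hxR
  have hres : Res0 p F E₁ E₂ R (resHom hRY ⟨α, hαs⟩) := ⟨_, hζ,
    Nat.Coprime.coprime_dvd_left ((orderOf_map_dvd _ _).trans (by rw [Subgroup.orderOf_mk])) hνco,
    fun x hx => by rw [e x (le_cc hx), hνR x hx, resHom_apl hRY _ hx]⟩
  exact ⟨_, Subgroup.subset_closure (Or.inr (h.gen_of_res0 hR
    (fullyCentralized_of_fullyNormalized h.pS h.sat hn) hres)),
    fun x hx => resHom_apl hRY _ hx⟩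

/-- The restriction of a `p'`-element. -/
theorem restr_coprime (hR : TC F T R) (hRY : R ≤ Y) (hYn : Y ≤ normalizerIn T R) {α : MulAut Y}
    (hα : α ∈ AA p F E₁ E₂ T Y) (hco : (orderOf α).Coprime p) (hst : ∀ x ∈ R, apl α x ∈ R) :
    ∃ β ∈ AA p F E₁ E₂ T R, ∀ x ∈ R, apl β x = apl α x := by
  have hRS := h.le_S hR
  have hYT : Y ≤ T := hYn.trans (normalizerIn_le _ _)
  have hY := hR.mono hRY hYT
  obtain ⟨Y₁, k₁, hY₁, -, hk₁, -⟩ := exists_fullyNormalized_mor h.pS h.sat (h.le_S hY)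
  obtain ⟨R₁, hR₁⟩ := (hk₁.1.mono hRY).exists_iso
  have hR₁T := hR.of_iso h.sc hR₁
  have hY₁T := hY.of_iso h.sc hk₁
  have hR₁Y₁ : R₁ ≤ Y₁ := fun y hy => by
    obtain ⟨x, hx, rfl⟩ := hR₁.exists_eq hy
    exact hk₁.mem (hRY hx)
  have hY₁n : ∀ y ∈ Y₁, y ∈ normalizerIn T R₁ := fun y hy => by
    obtain ⟨x, hx, rfl⟩ := hk₁.exists_eq hy
    exact ⟨hY₁T.1 (hk₁.mem hx), (hk₁.1.mem_normalizerIn hRY hR₁ hx (hYn hx).2).2⟩
  obtain ⟨R₂, k₂, hR₂, hk₂, hk₂i, hk₂m⟩ := exists_fullyNormalized_mor h.pS h.sat (h.le_S hR₁T)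
  have hR₂T := hR₁T.of_iso h.sc hk₂i
  have hY₁N : Y₁ ≤ normalizerIn S R₁ := fun y hy => ⟨h.T_le (hY₁n y hy).1, (hY₁n y hy).2⟩
  obtain ⟨Y₂, hY₂⟩ := (hk₂.mono hY₁N).exists_iso
  have hQN : cc S Y₁ ≤ normalizerIn S R₁ := sup_le hY₁N fun c hc => ⟨hc.1,
    Subgroup.centralizer_le_normalizer _ (Subgroup.centralizer_le hR₁Y₁ hc.2)⟩
  have hY₂c : F.IsFullyCentralized Y₂ := by
    have hY₁c := fullyCentralized_of_fullyNormalized h.pS h.sat hY₁
    refine ⟨hY₂.right_le, fun Q hQ => (hY₁c.2 Q (isConj_trans hY₂.isConj hQ)).trans ?_⟩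
    exact ((hk₂.mono hQN).mono centralizer_le_cc).card_image_le inf_le_left fun c hc =>
      centralizerIn_image stronglyClosed_self (hk₂.mono hQN) hY₂ hc
  have hY₂n : Y₂ ≤ normalizerIn T R₂ := fun y hy => by
    obtain ⟨x, hx, rfl⟩ := hY₂.exists_eq hy
    exact ⟨(hY₁T.of_iso h.sc hY₂).1 (hY₂.mem hx), (hk₂m x (hY₁N hx)).2⟩
  have hR₂Y₂ : R₂ ≤ Y₂ := fun y hy => by
    obtain ⟨x, hx, rfl⟩ := hk₂i.exists_eq hy
    exact hY₂.mem (hR₁Y₁ hx)
  have hk : Iso F Y Y₂ (k₂ ∘ k₁) := hk₁.comp hY₂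
  have hkR : Iso F R R₂ (k₂ ∘ k₁) := hR₁.comp hk₂i
  haveI := finite_of_le hRS
  obtain ⟨β, hβ, hβx⟩ := h.restr_core hR₂T hR₂ hY₂n hR₂Y₂ hY₂c (equiv_AA hk hα)
    (by rw [orderOf_conjAut]; exact hco) fun y hy => by
      obtain ⟨x, hx, rfl⟩ := hkR.exists_eq hy
      rw [hk.conjAut_apl α (hRY hx)]
      exact hkR.mem (hst x hx)
  obtain ⟨k', hk', hk'k, -⟩ := hkR.symm
  refine ⟨hk'.conjAut β, equiv_AA hk' hβ, fun x hx => ?_⟩
  have h1 := hk'.conjAut_apl β (hkR.mem hx)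
  rwa [hk'k x hx, hβx _ (hkR.mem hx), hk.conjAut_apl α (hRY hx), hk'k _ (hst x hx)] at h1

/-- The restriction of a `p`-element. -/
theorem restr_pow (hR : TC F T R) (hRY : R ≤ Y) (hYT : Y ≤ T) {α : MulAut Y}
    (hα : α ∈ AA p F E₁ E₂ T Y) {e : ℕ} (he : α ^ p ^ e = 1) (hst : ∀ x ∈ R, apl α x ∈ R) :
    ∃ β ∈ AA p F E₁ E₂ T R, ∀ x ∈ R, apl β x = apl α x := by
  have hY := hR.mono hRY hYT
  haveI := finite_of_le (h.le_S hR)
  haveI := finite_of_le (h.le_S hY)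
  obtain ⟨P, k, hP, -, hki, -⟩ := exists_fullyNormalized_mor h.pS h.sat (h.le_S hY)
  have hPT := hY.of_iso h.sc hki
  haveI := finite_of_le (h.le_S hPT)
  haveI : Finite (MulAut P) := Finite.of_injective _ MulEquiv.toEquiv_injective
  obtain ⟨m, hm, hmT⟩ := exists_conj_mem_of_sylIn (isPGroup_autInducedBy (h.pS.to_le h.T_le))
    (h.syl_AA hPT hP) (isPGroup_zpowers_of_pow_eq_one (x := hki.conjAut α) (e := e)
      (by rw [← map_pow, he, map_one]))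
    (Subgroup.zpowers_le.2 (equiv_AA hki hα))
  obtain ⟨t, ht, -, htx⟩ := mem_autInducedBy_iff.1 (hmT _ (Subgroup.mem_zpowers _))
  have hψ : Iso F Y P (apl m ∘ k) := hki.comp (iso_apl (h.le_S hPT) (AA_le hm))
  have hψx : ∀ x ∈ Y, (apl m ∘ k) (apl α x) = t * (apl m ∘ k) x * t⁻¹ := fun x hx => by
    show apl m (k _) = t * apl m (k x) * t⁻¹
    rw [← hki.conjAut_apl α hx, ← htx _ (apl_mem m (hki.mem hx)),
      apl_mul _ _ (apl_mem m (hki.mem hx)), apl_inv_apl m (hki.mem hx), apl_mul _ _ (hki.mem hx)]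
  obtain ⟨R₁, hR₁⟩ := (hψ.1.mono hRY).exists_iso
  haveI := finite_of_le hR₁.right_le
  have htn : t ∈ Subgroup.normalizer (R₁ : Set Ω) := mem_normalizer_of_conj_mem fun y hy => by
    obtain ⟨x, hx, rfl⟩ := hR₁.exists_eq hy
    rw [← hψx x (hRY hx)]
    exact hR₁.mem (hst x hx)
  have hαs : α ∈ stab Y R := mem_stab.2 fun x _ hxR => hst x hxR
  exact ⟨resHom hRY ⟨α, hαs⟩, Subgroup.subset_closure (Or.inl
    ⟨resHom_mem hRY (h.le_S hY) (AA_le hα), R₁, _, t,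
    ⟨ht, htn⟩, hR₁, fun x hx => by rw [resHom_apl hRY _ hx]; exact hψx x (hRY hx)⟩),
    fun x hx => resHom_apl hRY _ hx⟩

/-- The restriction. -/
theorem restr (hR : TC F T R) (hRY : R < Y) (hYn : Y ≤ normalizerIn T R) {α : MulAut Y}
    (hα : α ∈ AA p F E₁ E₂ T Y) (hi : Iso F R R (apl α)) :
    ∃ β ∈ AA p F E₁ E₂ T R, ∀ x ∈ R, apl β x = apl α x := by
  haveI := finite_of_le (hYn.trans ((normalizerIn_le _ _).trans h.T_le))
  haveI : Finite (MulAut Y) := Finite.of_injective _ MulEquiv.toEquiv_injective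
  have hαs : α ∈ stab Y R := mem_stab.2 fun x _ hxR => hi.mem hxR
  obtain ⟨a, b, hab, -, ha, hb, ⟨e, he⟩, hbco⟩ :=
    Cfsg.Agent.Fusion.exists_pPart_mul (p := p) α (isOfFinOrder_of_finite α)
  have hst : ∀ c ∈ Subgroup.zpowers α, ∀ x ∈ R, apl c x ∈ R := fun c hc x hx =>
    mem_stab.1 (Subgroup.zpowers_le.2 hαs hc) x (hRY.le hx) hx
  have hmem : ∀ c ∈ Subgroup.zpowers α, c ∈ AA p F E₁ E₂ T Y := fun c hc =>
    Subgroup.zpowers_le.2 hα hc
  obtain ⟨β₁, hβ₁, hβ₁x⟩ := h.restr_pow hR hRY.le (hYn.trans (normalizerIn_le _ _)) (hmem a ha)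
    (orderOf_dvd_iff_pow_eq_one.1 he) (hst a ha)
  obtain ⟨β₂, hβ₂, hβ₂x⟩ := h.restr_coprime hR hRY.le hYn (hmem b hb) hbco (hst b hb)
  exact ⟨β₁ * β₂, mul_mem hβ₁ hβ₂, fun x hx => by
    rw [apl_mul _ _ hx, hβ₂x x hx, hβ₁x _ (hst b hb x hx), hab, apl_mul _ _ (hRY.le hx)]⟩

end Pair

end Cfsg.Agent.FusSys.AM
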