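import Cfsg.Agent.FusSys.AMap.Meet.X
import Cfsg.Agent.Fusion.TransferTools
import Cfsg.Agent.FusSys.GroupSys

/-!
At a fully normalized subgroup the automorphisms induced by `T` are a Sylow subgroup of the group
they generate with the `p'`-elements, which is normal; its kernel on `R`.
-/

set_option autoImplicit false
set_option linter.unusedSectionVars false
set_option linter.style.haveILetI false
set_option linter.unusedVariables false
set_option maxHeartbeats 400000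

namespace Cfsg.Agent.FusSys.AM

open Cfsg Cfsg.FusionSystem Cfsg.Agent.FusSys

universe u

variable {Ω : Type u} [Group Ω] {S T T₁ T₂ : Subgroup Ω} {F : FusionSystem S}
variable {E₁ : FusionSystem T₁} {E₂ : FusionSystem T₂}
variable {R R' Y Q : Subgroup Ω} {f g : Ω → Ω} {p : ℕ}

section Receptive

variable [Fact p.Prime] [Finite S] (hS : IsPGroup p S) (hF : F.IsSaturated p)
include hS hF

/-- An automorphism of a receptive subgroup carrying one conjugation to another extends. -/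
theorem exists_ext_conj (hQ : F.IsReceptive Q) {a : MulAut Q} (ha : a ∈ F.autGroup Q) {s s' : Ω}
    (hs : s ∈ normalizerIn S Q) (hs' : s' ∈ S)
    (he : ∀ x ∈ Q, apl a (s * x * s⁻¹) = s' * apl a x * s'⁻¹) :
    ∃ D k, Mor F D k ∧ Q ≤ D ∧ s ∈ D ∧ D ≤ normalizerIn S Q ∧ (∀ x ∈ Q, k x = apl a x) ∧
      ∀ x ∈ Q, k s * x * (k s)⁻¹ = s' * x * s'⁻¹ := by
  have hi := iso_apl hQ.1 ha
  obtain ⟨k, hk, hka⟩ := (isReceptive_iff.1 hQ).2 Q _ hi
  have hsn : s ∈ nPhi S Q (apl a) := mem_nPhi.2 ⟨hs.1, hs.2, s', hs', he⟩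
  refine ⟨_, k, hk, hi.1.le_nPhi, hsn, nPhi_le, hka, fun y hy => ?_⟩
  obtain ⟨x, hx, rfl⟩ := hi.exists_eq hy
  have hsx := (Subgroup.mem_normalizer_iff.1 hs.2 x).1 hx
  rw [← he x hx, ← hka _ hsx, hk.map_conj hsn (hi.1.le_nPhi hx), hka x hx]

end Receptive

namespace Pair

variable (h : Pair p F T E₁ E₂) [Fact p.Prime] [Finite S]
include h

theorem normalizer_cc_eq (hR : TC F T R) : normalizerIn S (cc S R) = normalizerIn S R :=
  le_antisymm (fun _ ht => h.mem_normalizer_of_cc hR ht) fun _ ht =>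
    ⟨ht.1, h.mem_normalizer_ccS hR ht⟩

theorem fullyNormalized_cc (hR : TC F T R) (hn : F.IsFullyNormalized R) :
    F.IsFullyNormalized (cc S R) := by
  refine ⟨h.cc_le_S hR, fun Q hQ => ?_⟩
  obtain ⟨f, hf⟩ := isConj_iff.1 hQ
  obtain ⟨R', hR'⟩ := (hf.1.mono le_cc).exists_iso
  have hR'T := hR.of_iso h.sc hR'
  obtain ⟨hi, -⟩ := image_cc stronglyClosed_self hf.1 hR'
    (card_centralizerIn_le h.pS h.sat stronglyClosed_self
      (fullyCentralized_of_fullyNormalized h.pS h.sat hn) hR'.isConj)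
  obtain rfl : Q = cc S R' := hf.eq_image hi
  rw [h.normalizer_cc_eq hR, h.normalizer_cc_eq hR'T]
  exact hn.2 R' hR'.isConj

theorem receptive_cc (hR : TC F T R) (hn : F.IsFullyNormalized R) : F.IsReceptive (cc S R) :=
  receptive_of_fullyNormalized h.pS h.sat (h.fullyNormalized_cc hR hn)

/-- An element of `S` acting in `E` on `R C_U(R)` acts there as an element of `U`. -/
theorem exists_split {U : Subgroup Ω} {E : FusionSystem U} (hE : E.IsWeaklyNormalIn F p)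
    (hTU : T ≤ U) (hR : TC F T R) (hn : F.IsFullyNormalized R) {s : Ω}
    (hs : s ∈ normalizerIn S R) (hm : Mor E (cc U R) fun x => s * x * s⁻¹) :
    ∃ t ∈ U, ∀ x ∈ cc U R, t * x * t⁻¹ = s * x * s⁻¹ := by
  have hU := hE.2.2.2.1
  have hRU := hR.1.trans hTU
  haveI := finite_of_le hU.1
  haveI := finite_of_le (h.le_S hR)
  have hKS : cc U R ≤ S := (cc_le hRU).trans hU.1
  obtain ⟨K', k, hK', hk, hki, hkm⟩ := exists_fullyNormalized_mor h.pS h.sat hKS
  have hN : normalizerIn S R ≤ normalizerIn S (cc U R) := fun x hx =>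
    ⟨hx.1, mem_normalizer_cc hU.1 (h.le_S hR) hx.2 (StronglyClosed.le_normalizer hU hx.1)⟩
  have hkR := hk.mono hN
  have hRN : R ≤ normalizerIn S R := le_normalizerIn (h.le_S hR)
  obtain ⟨R', hR'⟩ := (hkR.mono hRN).exists_iso
  have hsK := hN hs
  -- the image acts in `E`
  have hsm : Iso E (cc U R) (cc U R) (fun x => s * x * s⁻¹) := by
    haveI := finite_of_le (cc_le hRU : cc U R ≤ U)
    exact iso_of_stable hm fun x hx => (Subgroup.mem_normalizer_iff.1 hsK.2 x).1 hx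
  obtain ⟨σ, hσ, hσx⟩ := hsm.exists_mem_autGroup
  have hσ' := conjAut_mem_of_isInvariant hE.2.2 (cc_le hRU) hki hσ
  have hK'U : K' ≤ U := fun y hy => by
    obtain ⟨x, hx, rfl⟩ := hki.exists_eq hy
    exact StronglyClosed.mor_mem hU hki.1 hx (cc_le hRU hx)
  have hval : ∀ y ∈ K', apl (hki.conjAut σ) y = k s * y * (k s)⁻¹ :=
    hki.conjAut_eq_conj fun x hx => by
      rw [hσx x hx, hk.map_conj hsK (le_normalizerIn hKS hx)]
  haveI := finite_of_le hK'.1
  haveI : Finite (MulAut K') := Finite.of_injective _ MulEquiv.toEquiv_injective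
  obtain ⟨-, V, hV⟩ := fullyAutomized_of_fullyNormalized (h.pS.to_le hU.1) hE.1
    (fullyNormalized_in_sub h.pS h.sat hE.2.2 hK'U hK')
  have hle : autInducedBy U K' ≤ autInducedBy S K' ⊓ E.autGroup K' :=
    le_inf (autInducedBy_mono hU.1) (autInducedBy_le_autGroup hK'U)
  have hσS : hki.conjAut σ ∈ autInducedBy S K' :=
    mem_autInducedBy_iff.2 ⟨k s, (hkm s hsK).1, (hkm s hsK).2, hval⟩
  have heq := V.3 (Q := (autInducedBy S K' ⊓ E.autGroup K').subgroupOf (E.autGroup K'))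
    ((isPGroup_autInducedBy h.pS).to_le inf_le_left).comap_subtype
    (by rw [hV]; exact fun a ha => hle ha)
  have h1 : (⟨_, hσ'⟩ : E.autGroup K') ∈ (V : Subgroup (E.autGroup K')) :=
    heq ▸ Subgroup.mem_subgroupOf.2 ⟨hσS, hσ'⟩
  rw [hV, Subgroup.mem_subgroupOf, mem_autInducedBy_iff] at h1
  obtain ⟨t', ht', ht'n, ht'x⟩ := h1
  -- `t'` comes from the normalizer of `R`
  have hR'T := hR.of_iso h.sc hR'
  have hmemR : ∀ x ∈ normalizerIn S R, k x ∈ normalizerIn S R' := fun x hx =>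
    ⟨(hkm x (hN hx)).1, (hkR.mem_normalizerIn hRN hR' hx hx.2).2⟩
  have ht'R : t' ∈ normalizerIn S R' := by
    haveI := finite_of_le (h.le_S hR'T)
    refine ⟨hU.1 ht', mem_normalizer_of_conj_mem fun y hy => ?_⟩
    obtain ⟨x, hx, rfl⟩ := hR'.exists_eq hy
    obtain ⟨z, hz, hzy⟩ := hki.exists_eq
      ((Subgroup.mem_normalizer_iff.1 ht'n _).1 (hki.mem (le_cc hx)))
    obtain ⟨k', hk', hk'k, -⟩ := hki.symm
    have hzT : z ∈ T := by
      rw [← hk'k z hz]
      refine StronglyClosed.mor_mem h.sc hk'.1 (hki.mem hz) ?_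
      rw [hzy]
      exact (Subgroup.mem_normalizer_iff.1 (h.T_normalized (hU.1 ht')) _).1
        (hR'T.1 (hR'.mem hx))
    rw [← hzy]
    exact hR'.mem (hR.cc_inter h.sc (cc_mono hU.1 hz) hzT)
  obtain ⟨t, ht, rfl⟩ := hkR.surj_of_card inf_le_left hmemR (hn.2 R' hR'.isConj) ht'R
  obtain ⟨D, hD⟩ := hkR.exists_iso
  obtain ⟨k'', hk'', hk''k, -⟩ := hD.symm
  refine ⟨t, ?_, fun x hx => ?_⟩
  · rw [← hk''k t ht]
    exact StronglyClosed.mor_mem hU hk''.1 (hD.mem ht) ht'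
  · have htK := hN ht
    have hx' := le_normalizerIn hKS hx
    refine hk.injOn (mul_mem (mul_mem htK hx') (inv_mem htK))
      (mul_mem (mul_mem hsK hx') (inv_mem hsK)) ?_
    rw [hk.map_conj htK hx', hk.map_conj hsK hx', ← ht'x _ (hki.mem hx), hval _ (hki.mem hx)]

/-- The key property for the transfer. -/
theorem conj_diff (hR : TC F T R) (hn : F.IsFullyNormalized R) {a x : MulAut (cc S R)}
    (ha : a ∈ XX F E₁ E₂ R) (hx : x ∈ XX F E₁ E₂ R) (hxS : x ∈ autInducedBy S (cc S R))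
    (hax : a * x * a⁻¹ ∈ autInducedBy S (cc S R)) :
    a * x * a⁻¹ * x⁻¹ ∈ autInducedBy T (cc S R) := by
  obtain ⟨s, hs, hsn, hsx⟩ := mem_autInducedBy_iff.1 hxS
  obtain ⟨s', hs', hs'n, hs'x⟩ := mem_autInducedBy_iff.1 hax
  have haP := (h.mem_XX hR).1 ha
  have hxP := (h.mem_XX hR).1 hx
  obtain ⟨D, k, hk, hQD, hsD, hDN, hka, hkx⟩ := exists_ext_conj h.pS h.sat (h.receptive_cc hR hn)
    haP.1 (s := s) (s' := s') ⟨hs, hsn⟩ hs' fun y hy => by
      rw [← hs'x _ (apl_mem a hy), apl_mul _ _ (apl_mem a hy), apl_inv_apl a hy, apl_mul _ _ hy,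
        hsx y hy]
  have hsR : s ∈ normalizerIn S R := h.mem_normalizer_of_cc hR ⟨hs, hsn⟩
  have side : ∀ {U : Subgroup Ω} {E : FusionSystem U}, E.IsWeaklyNormalIn F p → T ≤ U →
      Mor E (cc U R) (apl x) → k s * s⁻¹ ∈ U := by
    intro U E hE hTU hm
    have hU := hE.2.2.2.1
    obtain ⟨t, ht, htx⟩ := h.exists_split hE hTU hR hn hsR
      (hm.congr fun y hy => (hsx y (cc_mono hU.1 hy)).symm)
    have hz : t⁻¹ * s ∈ centralizerIn S R := mem_centralizerIn
      (S.mul_mem (S.inv_mem (hU.1 ht)) hs) fun y hy => by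
        calc t⁻¹ * s * y * (t⁻¹ * s)⁻¹ = t⁻¹ * (s * y * s⁻¹) * t := by group
          _ = y := by rw [← htx y (le_cc hy)]; group
    have hzQ : t⁻¹ * s ∈ cc S R := centralizer_le_cc hz
    have htD : t ∈ D := by
      have := D.mul_mem hsD (D.inv_mem (hQD hzQ))
      simpa using this
    have hzR := haP.2.1 _ hzQ
    have e1 : k s = k t * apl a (t⁻¹ * s) := by
      rw [← hka _ hzQ, ← hk.map_mul htD (hQD hzQ), mul_inv_cancel_left]
    have hd : apl a (t⁻¹ * s) * (t⁻¹ * s)⁻¹ ∈ U := by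
      have h1 := (Subgroup.mem_normalizer_iff.1 (cc_le_normalizer hzQ) _).1 hzR
      rw [mul_inv_cancel_left] at h1
      exact hR.1.trans hTU h1
    have e : k s * s⁻¹ = k t * (apl a (t⁻¹ * s) * (t⁻¹ * s)⁻¹) * t⁻¹ := by rw [e1]; group
    rw [e]
    exact U.mul_mem (U.mul_mem (StronglyClosed.mor_mem hU hk htD ht) hd) (U.inv_mem ht)
  have hkQ : k s ∈ normalizerIn S (cc S R) := by
    refine ⟨hk.mem_S hsD, ?_⟩
    haveI := finite_of_le (h.cc_le_S hR)
    exact mem_normalizer_of_conj_mem fun y hy => by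
      rw [hkx y hy]; exact (Subgroup.mem_normalizer_iff.1 hs'n y).1 hy
  refine mem_autInducedBy_iff.2 ⟨k s * s⁻¹,
    h.meet ⟨side h.wn₁ h.le₁ hxP.2.2.1, side h.wn₂ h.le₂ hxP.2.2.2⟩,
    mul_mem hkQ.2 (inv_mem hsn), fun y hy => ?_⟩
  have hy' := (Subgroup.mem_normalizer_iff''.1 hsn y).1 hy
  have e : apl x⁻¹ y = s⁻¹ * y * s := by
    have h2 := apl_inv_apl x hy'
    rw [hsx _ hy'] at h2
    convert h2 using 2
    group
  rw [apl_mul _ _ hy, e, hs'x _ hy', ← hkx _ hy']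
  group

/-- `Aut_T` is normalized by `Aut_S`. -/
theorem autT_normal {K : Subgroup Ω} {a b : MulAut K} (ha : a ∈ autInducedBy S K)
    (hb : b ∈ autInducedBy T K) : a * b * a⁻¹ ∈ autInducedBy T K := by
  obtain ⟨s, hs, hsn, hsx⟩ := mem_autInducedBy_iff.1 ha
  obtain ⟨t, ht, htn, htx⟩ := mem_autInducedBy_iff.1 hb
  refine mem_autInducedBy_iff.2 ⟨s * t * s⁻¹,
    (Subgroup.mem_normalizer_iff.1 (h.T_normalized hs) t).1 ht,
    mul_mem (mul_mem hsn htn) (inv_mem hsn), fun y hy => ?_⟩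
  have hy' := (Subgroup.mem_normalizer_iff''.1 hsn y).1 hy
  have e : apl a⁻¹ y = s⁻¹ * y * s := by
    have h2 := apl_inv_apl a hy'
    rw [hsx _ hy'] at h2
    convert h2 using 2
    group
  rw [apl_mul _ _ hy, apl_mul _ _ (apl_mem _ hy), e, htx _ hy',
    hsx _ ((Subgroup.mem_normalizer_iff.1 htn _).1 hy')]
  group

/-- The automorphisms induced by `S` in the group form a Sylow subgroup of it. -/
theorem sylIn_XX (hR : TC F T R) (hn : F.IsFullyNormalized R) :
    SylIn p (autInducedBy S (cc S R) ⊓ XX F E₁ E₂ R) (XX F E₁ E₂ R) := by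
  haveI := finite_of_le (h.cc_le_S hR)
  haveI : Finite (MulAut (cc S R)) := Finite.of_injective _ MulEquiv.toEquiv_injective
  have hA := (fullyAutomized_iff h.pS (h.cc_le_S hR)).1
    (fullyAutomized_of_fullyNormalized h.pS h.sat (h.fullyNormalized_cc hR hn))
  exact sylIn_inter_normal ⟨autInducedBy_le_autGroup (h.cc_le_S hR), hA⟩ (h.XX_le hR)
    ⟨fun b hb a => h.XX_normal hR a.2 hb⟩

theorem OO_inter (hR : TC F T R) (hn : F.IsFullyNormalized R) {x : MulAut (cc S R)}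
    (hx : x ∈ OO p F E₁ E₂ R) (hxS : x ∈ autInducedBy S (cc S R)) :
    x ∈ autInducedBy T (cc S R) := by
  haveI := finite_of_le (h.cc_le_S hR)
  haveI : Finite (MulAut (cc S R)) := Finite.of_injective _ MulEquiv.toEquiv_injective
  let X := XX F E₁ E₂ R
  let P : Subgroup X := (autInducedBy S (cc S R)).subgroupOf X
  let N : Subgroup P := ((autInducedBy T (cc S R)).subgroupOf X).subgroupOf P
  haveI hN : N.Normal := ⟨fun n hn g => h.autT_normal g.2 hn⟩
  have hcomm : ∀ a b : P ⧸ N, a * b = b * a := by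
    intro a b
    obtain ⟨a, rfl⟩ := QuotientGroup.mk_surjective a
    obtain ⟨b, rfl⟩ := QuotientGroup.mk_surjective b
    rw [← QuotientGroup.mk_mul, ← QuotientGroup.mk_mul, QuotientGroup.eq]
    have e : (a * b)⁻¹ * (b * a) = b⁻¹ * a⁻¹ * b⁻¹⁻¹ * a⁻¹⁻¹ := by group
    rw [e]
    exact h.conj_diff hR hn (b⁻¹).1.2 (a⁻¹).1.2 (a⁻¹).2 (b⁻¹ * a⁻¹ * b⁻¹⁻¹).2
  letI : CommGroup (P ⧸ N) := { (inferInstance : Group (P ⧸ N)) with mul_comm := hcomm }
  have hxX : x ∈ X := h.OO_le_XX hx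
  have hxr : (⟨x, hxX⟩ : X) ∈ pResidual p X := by
    have hmap : OO p F E₁ E₂ R ≤ (pResidual p X).map X.subtype := (Subgroup.closure_le _).2
      fun a ha => ⟨⟨a, ha.1⟩, Subgroup.subset_closure (by
        show (orderOf (⟨a, ha.1⟩ : X)).Coprime p
        rw [Subgroup.orderOf_mk]; exact ha.2), rfl⟩
    obtain ⟨y, hy, hye⟩ := hmap hx
    rwa [show y = ⟨x, hxX⟩ from Subtype.ext hye] at hy
  have key := Cfsg.Agent.Fusion.transfer_apply_eq_pow (QuotientGroup.mk' N) (⟨⟨x, hxX⟩, hxS⟩ : P)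
    (fun k a hk => by
      show QuotientGroup.mk' N _ = QuotientGroup.mk' N _
      rw [QuotientGroup.mk'_apply, QuotientGroup.mk'_apply, eq_comm, QuotientGroup.eq]
      have h1 := h.conj_diff hR hn a.2 (Subgroup.pow_mem X hxX k) (Subgroup.pow_mem _ hxS k) hk
      have h2 := h.autT_normal (inv_mem (Subgroup.pow_mem (autInducedBy S (cc S R)) hxS k)) h1
      show ((((⟨⟨x, hxX⟩, hxS⟩ : P) ^ k)⁻¹ * ⟨a * (⟨x, hxX⟩ : X) ^ k * a⁻¹, hk⟩ : P) : X).1 ∈
        autInducedBy T (cc S R)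
      push_cast
      convert h2 using 1
      group)
  have hA : IsPGroup p (P ⧸ N) :=
    ((isPGroup_autInducedBy h.pS).comap_subtype : IsPGroup p P).of_surjective (QuotientGroup.mk' N)
      (QuotientGroup.mk'_surjective N)
  have h0 : MonoidHom.transfer (QuotientGroup.mk' N) (⟨x, hxX⟩ : X) = 1 :=
    Cfsg.Agent.Fusion.pResidual_le_ker _ hA hxr
  rw [h0] at key
  have hidx : ¬ p ∣ P.index := by
    have h1 := (h.sylIn_XX hR hn).2
    rwa [Subgroup.inf_relIndex_right] at h1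
  obtain ⟨m, hm⟩ := IsPGroup.iff_orderOf.1 hA (QuotientGroup.mk' N ⟨⟨x, hxX⟩, hxS⟩)
  have h2 : orderOf (QuotientGroup.mk' N (⟨⟨x, hxX⟩, hxS⟩ : P)) = 1 :=
    Nat.eq_one_of_dvd_coprimes
      (Nat.Coprime.pow_left m ((Nat.Prime.coprime_iff_not_dvd Fact.out).2 hidx))
      hm.dvd (orderOf_dvd_iff_pow_eq_one.2 key.symm)
  rw [orderOf_eq_one_iff, QuotientGroup.mk'_apply, QuotientGroup.eq_one_iff] at h2
  exact h2

theorem mem_HH_iff (hR : TC F T R) {x : MulAut (cc S R)} : x ∈ HH p F E₁ E₂ T R ↔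
    ∃ y ∈ OO p F E₁ E₂ R, ∃ t ∈ autInducedBy T (cc S R), y * t = x := by
  have hle : autInducedBy T (cc S R) ≤
      Subgroup.normalizer (OO p F E₁ E₂ R : Set (MulAut (cc S R))) := fun t ht => by
    haveI := finite_of_le (h.cc_le_S hR)
    haveI : Finite (MulAut (cc S R)) := Finite.of_injective _ MulEquiv.toEquiv_injective
    exact mem_normalizer_of_conj_mem fun b hb =>
      h.OO_normal hR (h.XX_le hR (h.autT_le_XX hR ht)) hb
  rw [← SetLike.mem_coe, HH, Subgroup.coe_mul_of_right_le_normalizer_left _ _ hle, Set.mem_mul]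
  rfl

theorem HH_inter (hR : TC F T R) (hn : F.IsFullyNormalized R) {x : MulAut (cc S R)}
    (hx : x ∈ HH p F E₁ E₂ T R) (hxS : x ∈ autInducedBy S (cc S R)) :
    x ∈ autInducedBy T (cc S R) := by
  obtain ⟨y, hy, t, ht, rfl⟩ := (h.mem_HH_iff hR).1 hx
  refine mul_mem (h.OO_inter hR hn hy ?_) ht
  have h1 := mul_mem hxS (inv_mem (autInducedBy_mono h.T_le ht))
  rwa [mul_inv_cancel_right] at h1

/-- A conjugate of an automorphism induced by `T` is induced by `T` as soon as it is by `S`. -/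
theorem autT_closed (hR : TC F T R) (hn : F.IsFullyNormalized R) {a t : MulAut (cc S R)}
    (ha : a ∈ F.autGroup (cc S R)) (ht : t ∈ autInducedBy T (cc S R))
    (h' : a * t * a⁻¹ ∈ autInducedBy S (cc S R)) : a * t * a⁻¹ ∈ autInducedBy T (cc S R) := by
  obtain ⟨τ, hτ, hτn, hτx⟩ := mem_autInducedBy_iff.1 ht
  obtain ⟨s', hs', hs'n, hs'x⟩ := mem_autInducedBy_iff.1 h'
  obtain ⟨D, k, hk, hQD, hτD, -, -, hkx⟩ := exists_ext_conj h.pS h.sat (h.receptive_cc hR hn)
    ha (s := τ) (s' := s') ⟨h.T_le hτ, hτn⟩ hs' fun y hy => by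
      rw [← hs'x _ (apl_mem a hy), apl_mul _ _ (apl_mem a hy), apl_inv_apl a hy, apl_mul _ _ hy,
        hτx y hy]
  haveI := finite_of_le (h.cc_le_S hR)
  refine mem_autInducedBy_iff.2 ⟨k τ, StronglyClosed.mor_mem h.sc hk hτD hτ,
    mem_normalizer_of_conj_mem fun y hy => by
      rw [hkx y hy]; exact (Subgroup.mem_normalizer_iff.1 hs'n y).1 hy,
    fun y hy => by rw [hs'x y hy, hkx y hy]⟩

theorem HH_normal (hR : TC F T R) (hn : F.IsFullyNormalized R) {g x : MulAut (cc S R)}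
    (hg : g ∈ F.autGroup (cc S R)) (hx : x ∈ HH p F E₁ E₂ T R) :
    g * x * g⁻¹ ∈ HH p F E₁ E₂ T R := by
  haveI := finite_of_le (h.cc_le_S hR)
  haveI : Finite (MulAut (cc S R)) := Finite.of_injective _ MulEquiv.toEquiv_injective
  let X := XX F E₁ E₂ R
  have hYp : IsPGroup p ↥(autInducedBy S (cc S R) ⊓ X) :=
    (isPGroup_autInducedBy h.pS).to_le inf_le_left
  obtain ⟨P, hP⟩ := (sylIn_iff hYp inf_le_right).1 (h.sylIn_XX hR hn)
  have key : ∀ t ∈ autInducedBy T (cc S R), g * t * g⁻¹ ∈ HH p F E₁ E₂ T R := by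
    intro t ht
    have hy : g * t * g⁻¹ ∈ X := h.XX_normal hR hg (h.autT_le_XX hR ht)
    obtain ⟨k, hk⟩ := isPGroup_autInducedBy (P := cc S R) (h.pS.to_le h.T_le) ⟨t, ht⟩
    obtain ⟨c, hc⟩ := exists_conj_mem_sylow (isPGroup_zpowers_of_pow_eq_one
      (x := (⟨_, hy⟩ : X)) (e := k) (Subtype.ext (by
        show (g * t * g⁻¹) ^ p ^ k = 1
        rw [conj_pow, show t ^ p ^ k = 1 from congrArg Subtype.val hk]
        group))) P
    have h1 := hc _ (Subgroup.mem_zpowers _)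
    rw [hP, Subgroup.mem_subgroupOf] at h1
    push_cast at h1
    have e : ((c : MulAut (cc S R)) * g) * t * ((c : MulAut (cc S R)) * g)⁻¹ =
        (c : MulAut (cc S R)) * (g * t * g⁻¹) * (c : MulAut (cc S R))⁻¹ := by group
    have h2 := h.autT_closed hR hn (mul_mem (h.XX_le hR c.2) hg) ht (e ▸ h1.1)
    have hcm : c ∈ (⊤ : Subgroup X) := Subgroup.mem_top _
    rw [← Cfsg.Agent.Fusion.sylow_sup_pResidual P, Subgroup.mem_sup_of_normal_right] at hcm
    obtain ⟨s, hs, y, hy', hsy⟩ := hcm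
    rw [hP, Subgroup.mem_subgroupOf] at hs
    have h3 := h.autT_normal (inv_mem hs.1) h2
    have hyO : (y : MulAut (cc S R)) ∈ OO p F E₁ E₂ R := by
      refine (show pResidual p X ≤ (OO p F E₁ E₂ R).comap X.subtype from
        (Subgroup.closure_le _).2 fun a ha => Subgroup.subset_closure ⟨a.2, ?_⟩) hy'
      show (orderOf (a : MulAut (cc S R))).Coprime p
      rw [Subgroup.orderOf_coe]
      exact ha
    have h5 := mul_mem (mul_mem (inv_mem (Subgroup.mem_sup_left hyO : (y : MulAut (cc S R)) ∈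
      HH p F E₁ E₂ T R)) (Subgroup.mem_sup_right h3)) (Subgroup.mem_sup_left hyO)
    have e2 : g * t * g⁻¹ = (y : MulAut (cc S R))⁻¹ * ((s : MulAut (cc S R))⁻¹ *
        ((c : MulAut (cc S R)) * g * t * ((c : MulAut (cc S R)) * g)⁻¹) *
        (s : MulAut (cc S R))⁻¹⁻¹) * (y : MulAut (cc S R)) := by
      rw [show (c : MulAut (cc S R)) = (s : MulAut (cc S R)) * (y : MulAut (cc S R)) from
        (congrArg Subtype.val hsy).symm]
      group
    rw [e2]
    exact h5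
  have hle : HH p F E₁ E₂ T R ≤ (HH p F E₁ E₂ T R).comap (MulAut.conj g).toMonoidHom :=
    sup_le (fun z hz => Subgroup.mem_sup_left (h.OO_normal hR hg hz)) fun t ht => key t ht
  exact hle hx

/-- The automorphisms induced by `T` form a Sylow subgroup of the group. -/
theorem sylIn_HH (hR : TC F T R) (hn : F.IsFullyNormalized R) :
    SylIn p (autInducedBy T (cc S R)) (HH p F E₁ E₂ T R) := by
  haveI := finite_of_le (h.cc_le_S hR)
  haveI : Finite (MulAut (cc S R)) := Finite.of_injective _ MulEquiv.toEquiv_injective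
  have hA := (fullyAutomized_iff h.pS (h.cc_le_S hR)).1
    (fullyAutomized_of_fullyNormalized h.pS h.sat (h.fullyNormalized_cc hR hn))
  have h1 := sylIn_inter_normal ⟨autInducedBy_le_autGroup (h.cc_le_S hR), hA⟩ (h.HH_le hR)
    ⟨fun b hb a => h.HH_normal hR hn a.2 hb⟩
  have e : autInducedBy S (cc S R) ⊓ HH p F E₁ E₂ T R = autInducedBy T (cc S R) :=
    le_antisymm (fun x hx => h.HH_inter hR hn hx.2 hx.1)
      (le_inf (autInducedBy_mono h.T_le) h.autT_le_HH)
  rwa [e] at h1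

/-- An element of the group fixing `R` is conjugation by an element of `R`. -/
theorem ker_HH (hR : TC F T R) (hn : F.IsFullyNormalized R) {κ : MulAut (cc S R)}
    (hκ : κ ∈ HH p F E₁ E₂ T R) (hfix : ∀ x ∈ R, apl κ x = x) :
    ∃ z ∈ R, ∀ x ∈ cc S R, apl κ x = z * x * z⁻¹ := by
  have hQS := h.cc_le_S hR
  haveI := finite_of_le hQS
  haveI : Finite (MulAut (cc S R)) := Finite.of_injective _ MulEquiv.toEquiv_injective
  let Γ := F.autGroup (cc S R)
  let K : Subgroup Γ :=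
    { carrier := {a | (a : MulAut (cc S R)) ∈ HH p F E₁ E₂ T R ∧ ∀ x ∈ R, apl (a : MulAut (cc S R)) x = x}
      one_mem' := ⟨one_mem _, fun x hx => apl_one (le_cc hx)⟩
      mul_mem' := fun {a b} ha hb => ⟨mul_mem ha.1 hb.1, fun x hx => by
        rw [Subgroup.coe_mul, apl_mul _ _ (le_cc hx), hb.2 x hx, ha.2 x hx]⟩
      inv_mem' := fun {a} ha => ⟨inv_mem ha.1, fun x hx => by
        rw [Subgroup.coe_inv]
        conv_lhs => rw [← ha.2 x hx]
        rw [apl_inv_apl _ (le_cc hx)]⟩ }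
  haveI hKn : K.Normal := ⟨fun b hb a => ⟨h.HH_normal hR hn a.2 hb.1, fun x hx => by
    have hy : apl (a : MulAut (cc S R))⁻¹ x ∈ R := h.apl_mem_R hR (inv_mem a.2) hx
    rw [Subgroup.coe_mul, Subgroup.coe_mul, Subgroup.coe_inv, apl_mul _ _ (le_cc hx),
      apl_mul _ _ (apl_mem _ (le_cc hx)), hb.2 _ hy, apl_apl_inv _ (le_cc hx)]⟩⟩
  have hKp : IsPGroup p K := fun a => by
    obtain ⟨k, hk⟩ := pow_eq_one_of_fix (F := F) h.pS le_cc hQS a.1.2 a.2.2
      ((h.mem_XX hR).1 (h.HH_le_XX hR a.2.1)).2.1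
    exact ⟨k, Subtype.ext (Subtype.ext hk)⟩
  obtain ⟨-, U, hU⟩ := fullyAutomized_of_fullyNormalized h.pS h.sat (h.fullyNormalized_cc hR hn)
  obtain ⟨c, hc⟩ := exists_conj_mem_sylow hKp U
  have hκK : (⟨κ, h.HH_le hR hκ⟩ : Γ) ∈ K := ⟨hκ, hfix⟩
  have h1 := hc _ (hKn.conj_mem _ hκK c⁻¹)
  rw [hU, Subgroup.mem_subgroupOf] at h1
  push_cast at h1
  have h2 : κ ∈ autInducedBy T (cc S R) := h.HH_inter hR hn hκ (by convert h1 using 1; group)
  obtain ⟨t, ht, -, htx⟩ := mem_autInducedBy_iff.1 h2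
  exact ⟨t, hR.mem h.sc ht fun x hx => (htx x (le_cc hx)).symm.trans (hfix x hx), htx⟩

end Pair

end Cfsg.Agent.FusSys.AM
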