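import Cfsg.Agent.FusSys.AMap.Meet.Cc
import Cfsg.Agent.FusSys.InvariantOp

/-!
The automorphisms of `R C_S(R)` which are trivial modulo `R` and lie in both of two weakly normal
subsystems where these are defined.
-/

set_option autoImplicit false
set_option linter.unusedSectionVars false
set_option linter.style.haveILetI false
set_option linter.unusedVariables false

namespace Cfsg.Agent.FusSys.AM

open Cfsg Cfsg.FusionSystem Cfsg.Agent.FusSys

universe u

variable {Ω : Type u} [Group Ω] {S T T₁ T₂ : Subgroup Ω} {F : FusionSystem S}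
variable {E₁ : FusionSystem T₁} {E₂ : FusionSystem T₂}
variable {R R' Y : Subgroup Ω} {f g : Ω → Ω} {p : ℕ}

/-- Two weakly normal subsystems and a strongly closed subgroup between their meet and both. -/
structure Pair (p : ℕ) (F : FusionSystem S) (T : Subgroup Ω) (E₁ : FusionSystem T₁)
    (E₂ : FusionSystem T₂) : Prop where
  pS : IsPGroup p S
  sat : F.IsSaturated p
  sc : F.StronglyClosed T
  wn₁ : E₁.IsWeaklyNormalIn F p
  wn₂ : E₂.IsWeaklyNormalIn F p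
  le₁ : T ≤ T₁
  le₂ : T ≤ T₂
  meet : T₁ ⊓ T₂ ≤ T

/-- An automorphism in `E` on `R C_{U}(R)`, trivial modulo `R` on `R C_S(R)`. -/
def XP (F : FusionSystem S) (E₁ : FusionSystem T₁) (E₂ : FusionSystem T₂) (R : Subgroup Ω)
    (η : MulAut (cc S R)) : Prop :=
  η ∈ F.autGroup (cc S R) ∧ (∀ x ∈ cc S R, x⁻¹ * apl η x ∈ R) ∧
    Mor E₁ (cc T₁ R) (apl η) ∧ Mor E₂ (cc T₂ R) (apl η)

/-- The group these automorphisms generate. -/
def XX (F : FusionSystem S) (E₁ : FusionSystem T₁) (E₂ : FusionSystem T₂) (R : Subgroup Ω) :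
    Subgroup (MulAut (cc S R)) := Subgroup.closure {η | XP F E₁ E₂ R η}

/-- Its elements of order prime to `p`. -/
def OO (p : ℕ) (F : FusionSystem S) (E₁ : FusionSystem T₁) (E₂ : FusionSystem T₂) (R : Subgroup Ω) :
    Subgroup (MulAut (cc S R)) :=
  Subgroup.closure {η | η ∈ XX F E₁ E₂ R ∧ (orderOf η).Coprime p}

/-- Those with the automorphisms induced by `T`. -/
def HH (p : ℕ) (F : FusionSystem S) (E₁ : FusionSystem T₁) (E₂ : FusionSystem T₂) (T R : Subgroup Ω) :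
    Subgroup (MulAut (cc S R)) :=
  OO p F E₁ E₂ R ⊔ autInducedBy T (cc S R)

/-- Extends to such an automorphism of order prime to `p`. -/
def Res0 (p : ℕ) (F : FusionSystem S) (E₁ : FusionSystem T₁) (E₂ : FusionSystem T₂) (R : Subgroup Ω)
    (γ : MulAut R) : Prop :=
  ∃ η ∈ XX F E₁ E₂ R, (orderOf η).Coprime p ∧ ∀ x ∈ R, apl η x = apl γ x

namespace Pair

variable (h : Pair p F T E₁ E₂)
include h

theorem sc₁ : F.StronglyClosed T₁ := h.wn₁.2.2.2.1

theorem sc₂ : F.StronglyClosed T₂ := h.wn₂.2.2.2.1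

theorem T_le : T ≤ S := h.sc.1

theorem T_normalized {g : Ω} (hg : g ∈ S) : g ∈ Subgroup.normalizer (T : Set Ω) :=
  StronglyClosed.le_normalizer h.sc hg

theorem le_S (hR : TC F T R) : R ≤ S := hR.1.trans h.sc.1

theorem cc_le_S (hR : TC F T R) : cc S R ≤ S := cc_le (h.le_S hR)

/-- Maps on `R C_S(R)` carrying `R` into `R'` carry `R C_U(R)` into `U`. -/
theorem mor_U {U : Subgroup Ω} (hU : F.StronglyClosed U) (hR : R ≤ U)
    (hf : Mor F (cc S R) f) {x : Ω} (hx : x ∈ cc U R) : f x ∈ U :=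
  StronglyClosed.mor_mem hU hf (cc_mono hU.1 hx) (cc_le hR hx)

variable [Finite S]

theorem apl_mem_R (hR : TC F T R) {η : MulAut (cc S R)} (hη : η ∈ F.autGroup (cc S R)) {x : Ω}
    (hx : x ∈ R) : apl η x ∈ R :=
  hR.cc_inter h.sc (apl_mem η (le_cc hx))
    (StronglyClosed.mor_mem h.sc (iso_apl (h.cc_le_S hR) hη).1 (le_cc hx) (hR.1 hx))

theorem apl_mem_cc {U : Subgroup Ω} (hU : F.StronglyClosed U) (hRU : R ≤ U) (hR : TC F T R)
    {η : MulAut (cc S R)} (hη : η ∈ F.autGroup (cc S R)) {x : Ω} (hx : x ∈ cc U R) :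
    apl η x ∈ cc U R :=
  cc_inter hRU (apl_mem η (cc_mono hU.1 hx))
    (mor_U h hU hRU (iso_apl (h.cc_le_S hR) hη).1 hx)

theorem iso_R (hR : TC F T R) {η : MulAut (cc S R)} (hη : η ∈ F.autGroup (cc S R)) :
    Iso F R R (apl η) := by
  haveI := finite_of_le (h.le_S hR)
  exact iso_of_stable ((iso_apl (h.cc_le_S hR) hη).1.mono le_cc) fun x hx => h.apl_mem_R hR hη hx

theorem mor_cc_mul {U : Subgroup Ω} {E : FusionSystem U} (hU : F.StronglyClosed U) (hRU : R ≤ U)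
    (hR : TC F T R) {a b : MulAut (cc S R)} (hb : b ∈ F.autGroup (cc S R))
    (ha' : Mor E (cc U R) (apl a)) (hb' : Mor E (cc U R) (apl b)) :
    Mor E (cc U R) (apl (a * b)) :=
  (hb'.comp ha' fun x hx => h.apl_mem_cc hU hRU hR hb hx).congr fun x hx =>
    apl_mul a b (cc_mono hU.1 hx)

theorem xp_one (hR : TC F T R) : XP F E₁ E₂ R 1 :=
  ⟨one_mem _, fun x hx => by rw [apl_one hx, inv_mul_cancel]; exact R.one_mem,
    (mor_id (cc_le (hR.1.trans h.le₁))).congr fun x hx => apl_one (cc_mono h.sc₁.1 hx),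
    (mor_id (cc_le (hR.1.trans h.le₂))).congr fun x hx => apl_one (cc_mono h.sc₂.1 hx)⟩

theorem xp_mul (hR : TC F T R) {a b : MulAut (cc S R)} (ha : XP F E₁ E₂ R a)
    (hb : XP F E₁ E₂ R b) : XP F E₁ E₂ R (a * b) :=
  ⟨mul_mem ha.1 hb.1, fun x hx => by
      rw [apl_mul _ _ hx]
      have h1 := R.mul_mem (hb.2.1 x hx) (ha.2.1 _ (apl_mem b hx))
      rwa [mul_assoc, mul_inv_cancel_left] at h1,
    h.mor_cc_mul h.sc₁ (hR.1.trans h.le₁) hR hb.1 ha.2.2.1 hb.2.2.1,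
    h.mor_cc_mul h.sc₂ (hR.1.trans h.le₂) hR hb.1 ha.2.2.2 hb.2.2.2⟩

theorem xp_inv (hR : TC F T R) {a : MulAut (cc S R)} (ha : XP F E₁ E₂ R a) :
    XP F E₁ E₂ R a⁻¹ := by
  haveI := finite_of_le (h.cc_le_S hR)
  haveI : Finite (MulAut (cc S R)) := Finite.of_injective _ MulEquiv.toEquiv_injective
  have hp : ∀ n : ℕ, XP F E₁ E₂ R (a ^ n) := by
    intro n
    induction n with
    | zero => rw [pow_zero]; exact h.xp_one hR
    | succ n ih => rw [pow_succ]; exact h.xp_mul hR ih ha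
  have e : a⁻¹ = a ^ (orderOf a - 1) := by
    refine inv_eq_of_mul_eq_one_right ?_
    rw [← pow_succ', Nat.sub_add_cancel (orderOf_pos a), pow_orderOf_eq_one]
  exact e ▸ hp _

theorem mem_XX (hR : TC F T R) {η : MulAut (cc S R)} :
    η ∈ XX F E₁ E₂ R ↔ XP F E₁ E₂ R η :=
  ⟨fun hη => by
    induction hη using Subgroup.closure_induction with
    | mem a ha => exact ha
    | one => exact h.xp_one hR
    | mul a b _ _ ha hb => exact h.xp_mul hR ha hb
    | inv a _ ha => exact h.xp_inv hR ha, fun hη => Subgroup.subset_closure hη⟩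

theorem XX_le (hR : TC F T R) : XX F E₁ E₂ R ≤ F.autGroup (cc S R) :=
  fun η hη => ((h.mem_XX hR).1 hη).1

theorem OO_le_XX : OO p F E₁ E₂ R ≤ XX F E₁ E₂ R :=
  (Subgroup.closure_le _).2 fun _ hη => hη.1

theorem OO_le (hR : TC F T R) : OO p F E₁ E₂ R ≤ F.autGroup (cc S R) :=
  h.OO_le_XX.trans (h.XX_le hR)

/-- An element of `T` normalizing `R` normalizes `R C_S(R)`. -/
theorem mem_normalizer_ccS (hR : TC F T R) {t : Ω} (ht : t ∈ normalizerIn S R) :
    t ∈ Subgroup.normalizer (cc S R : Set Ω) :=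
  mem_normalizer_cc le_rfl (h.le_S hR) ht.2 (normalizer_self ht.1)

theorem mem_normalizer_of_cc (hR : TC F T R) {t : Ω} (ht : t ∈ normalizerIn S (cc S R)) :
    t ∈ normalizerIn S R := by
  haveI := finite_of_le (h.le_S hR)
  refine ⟨ht.1, mem_normalizer_of_conj_mem fun x hx => hR.cc_inter h.sc
    ((Subgroup.mem_normalizer_iff.1 ht.2 x).1 (le_cc hx))
    ((Subgroup.mem_normalizer_iff.1 (h.T_normalized ht.1) x).1 (hR.1 hx))⟩

theorem autT_le_XX (hR : TC F T R) : autInducedBy T (cc S R) ≤ XX F E₁ E₂ R := by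
  intro η hη
  obtain ⟨t, ht, htn, htx⟩ := mem_autInducedBy_iff.1 hη
  have htR := h.mem_normalizer_of_cc hR ⟨h.T_le ht, htn⟩
  refine (h.mem_XX hR).2 ⟨autInducedBy_le_autGroup (h.cc_le_S hR) (autInducedBy_mono h.T_le hη),
    fun x hx => ?_,
    (mor_conj (cc_le (hR.1.trans h.le₁)) (h.le₁ ht)).congr fun x hx => htx x (cc_mono h.sc₁.1 hx),
    (mor_conj (cc_le (hR.1.trans h.le₂)) (h.le₂ ht)).congr fun x hx => htx x (cc_mono h.sc₂.1 hx)⟩
  rw [htx x hx]
  refine hR.cc_inter h.sc (mul_mem (inv_mem hx) ((Subgroup.mem_normalizer_iff.1 htn x).1 hx)) ?_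
  have h1 := T.mul_mem ((Subgroup.mem_normalizer_iff.1
    (h.T_normalized (S.inv_mem (h.cc_le_S hR hx))) t).1 ht) (T.inv_mem ht)
  convert h1 using 1
  group

theorem HH_le_XX (hR : TC F T R) : HH p F E₁ E₂ T R ≤ XX F E₁ E₂ R :=
  sup_le h.OO_le_XX (h.autT_le_XX hR)

theorem HH_le (hR : TC F T R) : HH p F E₁ E₂ T R ≤ F.autGroup (cc S R) :=
  (h.HH_le_XX hR).trans (h.XX_le hR)

theorem autT_le_HH : autInducedBy T (cc S R) ≤ HH p F E₁ E₂ T R := le_sup_right

theorem mem_HH_of_coprime {η : MulAut (cc S R)} (hη : η ∈ XX F E₁ E₂ R)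
    (hco : (orderOf η).Coprime p) : η ∈ HH p F E₁ E₂ T R :=
  Subgroup.mem_sup_left (Subgroup.subset_closure ⟨hη, hco⟩)

/-! ### Transport -/

theorem mor_transport {U : Subgroup Ω} {E : FusionSystem U} (hE : E.IsWeaklyNormalIn F p)
    (hRU : R ≤ U) (hR : TC F T R) {η : MulAut (cc S R)} (hη : η ∈ F.autGroup (cc S R))
    (hm : Mor E (cc U R) (apl η)) (hR' : R' ≤ U) (hk : Iso F (cc S R) (cc S R') f) :
    Mor E (cc U R') (apl (hk.conjAut η)) := by
  have hU := hE.2.2.2.1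
  have := finite_of_le hU.1
  have hsub : cc U R ≤ cc S R := cc_mono hU.1
  have hk' : Iso F (cc U R) (cc U R') f := ⟨hk.1.mono hsub, fun y => ⟨fun hy => by
      obtain ⟨x, hx, rfl⟩ := hk.exists_eq (cc_mono hU.1 hy)
      refine ⟨x, cc_inter hRU hx ?_, rfl⟩
      obtain ⟨f', hf', hf'f, -⟩ := hk.symm
      rw [← hf'f x hx]
      exact mor_U h hU hR' hf'.1 hy,
    fun ⟨x, hx, hxy⟩ => hxy ▸ cc_inter hR' (hk.mem (hsub hx)) (mor_U h hU hRU hk.1 hx)⟩⟩
  have hKS : cc U R ≤ U := cc_le hRU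
  obtain ⟨a, ha, hax⟩ := (iso_of_stable (F := E) hm fun x hx =>
    h.apl_mem_cc hU hRU hR hη hx).exists_mem_autGroup
  have hb := conjAut_mem_of_isInvariant hE.2.2 hKS hk' ha
  refine (iso_apl (cc_le hR') hb).1.congr fun y hy => ?_
  obtain ⟨x, hx, rfl⟩ := hk'.exists_eq hy
  rw [hk'.conjAut_apl a hx, hk.conjAut_apl η (hsub hx), hax x hx]

theorem xp_transport (hR : TC F T R) (hR' : TC F T R') (hk : Iso F (cc S R) (cc S R') f)
    {η : MulAut (cc S R)} (hη : XP F E₁ E₂ R η) : XP F E₁ E₂ R' (hk.conjAut η) := by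
  refine ⟨hk.conjAut_mem hη.1, fun y hy => ?_,
    h.mor_transport h.wn₁ (hR.1.trans h.le₁) hR hη.1 hη.2.2.1 (hR'.1.trans h.le₁) hk,
    h.mor_transport h.wn₂ (hR.1.trans h.le₂) hR hη.1 hη.2.2.2 (hR'.1.trans h.le₂) hk⟩
  obtain ⟨x, hx, rfl⟩ := hk.exists_eq hy
  have hd := hη.2.1 x hx
  rw [hk.conjAut_apl η hx, ← hk.1.map_inv hx, ← hk.1.map_mul (inv_mem hx) (apl_mem η hx)]
  exact hR'.cc_inter h.sc (hk.mem (le_cc hd)) (StronglyClosed.mor_mem h.sc hk.1 (le_cc hd) (hR.1 hd))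

theorem XX_transport (hR : TC F T R) (hR' : TC F T R') (hk : Iso F (cc S R) (cc S R') f)
    {η : MulAut (cc S R)} (hη : η ∈ XX F E₁ E₂ R) : hk.conjAut η ∈ XX F E₁ E₂ R' :=
  (h.mem_XX hR').2 (h.xp_transport hR hR' hk ((h.mem_XX hR).1 hη))

theorem OO_transport (hR : TC F T R) (hR' : TC F T R') (hk : Iso F (cc S R) (cc S R') f)
    {η : MulAut (cc S R)} (hη : η ∈ OO p F E₁ E₂ R) : hk.conjAut η ∈ OO p F E₁ E₂ R' := by
  induction hη using Subgroup.closure_induction with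
  | mem a ha =>
    exact Subgroup.subset_closure ⟨h.XX_transport hR hR' hk ha.1, by
      rw [orderOf_conjAut]; exact ha.2⟩
  | one => rw [map_one]; exact one_mem _
  | mul a b _ _ ha hb => rw [map_mul]; exact mul_mem ha hb
  | inv a _ ha => rw [map_inv]; exact inv_mem ha

theorem XX_normal (hR : TC F T R) {a b : MulAut (cc S R)} (ha : a ∈ F.autGroup (cc S R))
    (hb : b ∈ XX F E₁ E₂ R) : a * b * a⁻¹ ∈ XX F E₁ E₂ R := by
  have h1 := h.XX_transport hR hR (iso_apl (h.cc_le_S hR) ha) hb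
  rwa [conjAut_apl_iso (h.cc_le_S hR) ha] at h1

theorem OO_normal (hR : TC F T R) {a b : MulAut (cc S R)} (ha : a ∈ F.autGroup (cc S R))
    (hb : b ∈ OO p F E₁ E₂ R) : a * b * a⁻¹ ∈ OO p F E₁ E₂ R := by
  have h1 := h.OO_transport hR hR (iso_apl (h.cc_le_S hR) ha) hb
  rwa [conjAut_apl_iso (h.cc_le_S hR) ha] at h1

end Pair

end Cfsg.Agent.FusSys.AM
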